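import Cfsg.Agent.Lib.Classical.CharTwo.OrthClasses
import Cfsg.Agent.Lib.Classical.Quad.PlusMinusType

/-!
# Classes of involutions of `Ω` in characteristic two
-/

set_option autoImplicit false
set_option maxHeartbeats 800000

namespace CfsgLib.Classical.CharTwo

open scoped Matrix
open QuadraticMap (polar polarBilin)
open CfsgLib.Classical.Quad CfsgLib.Known.OmegaCriterion

variable {F : Type*} [Field F] [CharP F 2] [Fintype F] {ι : Type} [Fintype ι] [DecidableEq ι]
  {Q : QuadraticForm F (ι → F)} {m : ℕ} (hQ : (polarBilin Q).Nondegenerate)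
  (hι : Fintype.card ι = 2 * m) (hR : reflGroup Q = ⊤)

include hQ hR in
theorem mem_Omega_iff_par_of_refl (g : ↥(Cfsg.isometryGroup F ⇑Q)) :
    g ∈ Cfsg.Omega F ⇑Q ↔ par (oEquiv Q g) = 0 := by
  rw [mem_Omega_iff_commutator, mem_commutator_iff hQ hR]
  exact and_iff_left (spinor_of_two_eq_zero CharTwo.two_eq_zero _)

include hQ hR in
theorem mem_Omega_iff_rank (g : ↥(Cfsg.isometryGroup F ⇑Q)) :
    g ∈ Cfsg.Omega F ⇑Q ↔ Even (Module.finrank F (LinearMap.range (omap g))) := by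
  rw [mem_Omega_iff_par_of_refl hQ hR, par, finrank_mov_oEquiv, ZMod.natCast_eq_zero_iff_even,
    finrank_range_omap]

/-- The exceptional involutions, whose classes split in `Ω`. -/
def IsExceptional (m : ℕ) (a : ↥(Cfsg.isometryGroup F ⇑Q)) : Prop :=
  Module.finrank F (LinearMap.range (omap a)) = m ∧ IsTypeA (polarBilin Q) (omap a)

include hQ hι hR in
theorem exists_omega_conj_of_not_exceptional {a b : ↥(Cfsg.isometryGroup F ⇑Q)} (ha : a ^ 2 = 1)
    (hconj : IsConj a b) (hne : ¬ IsExceptional m a) :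
    ∃ g ∈ Cfsg.Omega F ⇑Q, g * a * g⁻¹ = b := by
  obtain ⟨c, hc⟩ := isConj_iff.1 hconj
  obtain ⟨k, hk, hp⟩ := exists_conj_par_zero hQ hR (sqZero_omap hQ ha) (finrank_pi_eq hι)
    (fun h => hne ⟨h.1, fun v => (apply_T (omap_inv a) v).symm.trans (h.2 v)⟩)
    (oEquiv Q c) ((omap_conj a b c).1 hc)
  obtain ⟨g, rfl⟩ := (oEquiv Q).surjective k
  exact ⟨g, (mem_Omega_iff_par_of_refl hQ hR g).2 hp, (omap_conj a b g).2 hk⟩

include hQ hι hR in
theorem par_conjugators_eq {a b c d : ↥(Cfsg.isometryGroup F ⇑Q)} (ha : a ^ 2 = 1)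
    (he : IsExceptional m a) (hc : c * a * c⁻¹ = b) (hd : d * a * d⁻¹ = b) :
    par (oEquiv Q c) = par (oEquiv Q d) := by
  have hal : ∀ v, Q (omap a v) = 0 := fun v => (apply_T (omap_inv a) v).trans (he.2 v)
  rw [par_eq_inter hQ hR (sqZero_omap hQ ha) (finrank_pi_eq hι) he.1 hal (omap_inv a) _
      ((omap_conj a b c).1 hc),
    par_eq_inter hQ hR (sqZero_omap hQ ha) (finrank_pi_eq hι) he.1 hal (omap_inv a) _
      ((omap_conj a b d).1 hd)]

omit [CharP F 2] [Fintype F] in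
theorem isConj_mk_iff {H : Subgroup ↥(Cfsg.isometryGroup F ⇑Q)} (a b : H) :
    IsConj a b ↔ ∃ g ∈ H, g * (a : ↥(Cfsg.isometryGroup F ⇑Q)) * g⁻¹ = b := by
  rw [isConj_iff]
  constructor
  · rintro ⟨g, rfl⟩
    exact ⟨g, g.2, rfl⟩
  · rintro ⟨g, hg, h⟩
    exact ⟨⟨g, hg⟩, Subtype.ext h⟩

variable (ε : Bool) (hε : if ε then 0 < signSum ⇑Q else signSum ⇑Q < 0)

/-- The number of split classes. -/
def splitCount (ε : Bool) (m : ℕ) : ℕ := if ε ∧ Even m then 1 else 0

include hQ hι hR hε in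
/-- The number of classes of involutions of `Ω`. -/
theorem card_classes_Omega (hm : 1 ≤ m) :
    Nat.card {C : ConjClasses ↥(Cfsg.Omega F ⇑Q) //
      ∃ g : ↥(Cfsg.Omega F ⇑Q), ConjClasses.mk g = C ∧ orderOf g = 2} =
      m / 2 + typeACount ε m + splitCount ε m := by
  classical
  choose repN hNo hNr hNa using fun i : Fin (m / 2) =>
    exists_orth_invol hQ hι (s := 2 * (i : ℕ) + 2) (by omega) (by omega) False False.elim
      (Or.inr fun h => h.2)
  choose repA hAo hAr hAa using fun j => exists_reps_A hQ hι ε hε j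
  obtain ⟨v, hv⟩ : ∃ v, Q v ≠ 0 := by
    by_contra hc
    push Not at hc
    have : Nontrivial (ι → F) := Module.nontrivial_of_finrank_pos (R := F)
      (by rw [finrank_pi_eq hι]; omega)
    obtain ⟨u, hu⟩ := exists_ne (0 : ι → F)
    exact hu (hQ.1 u fun w => by show Q (u + w) - Q u - Q w = 0; simp [hc])
  set r := (oEquiv Q).symm (refl hv) with hrdef
  have hpr : par (oEquiv Q r) = 1 := by rw [hrdef, MulEquiv.apply_symm_apply, par_refl hQ]
  have hsplit : ∀ e : Fin (splitCount ε m), m / 2 - 1 < typeACount ε m ∧ 2 * (m / 2 - 1) + 2 = m := by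
    intro e
    have h := e.2
    simp only [splitCount] at h
    split_ifs at h with hc
    · obtain ⟨h1, k, hk⟩ := hc
      simp [typeACount, h1]
      omega
    · omega
  let base : Fin (splitCount ε m) → ↥(Cfsg.isometryGroup F ⇑Q) := fun e =>
    repA ⟨m / 2 - 1, (hsplit e).1⟩
  have hbase : ∀ e, IsExceptional m (base e) := fun e => ⟨(hAr _).trans (hsplit e).2, hAa _⟩
  let rep : (Fin (m / 2) ⊕ Fin (typeACount ε m)) ⊕ Fin (splitCount ε m) → ↥(Cfsg.isometryGroup F ⇑Q) :=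
    Sum.elim (Sum.elim repN repA) (fun e => r * base e * r⁻¹)
  have hord : ∀ p, orderOf (rep p) = 2 := by
    rintro ((i | j) | e)
    · exact hNo i
    · exact hAo j
    · exact (MulEquiv.orderOf_eq (MulAut.conj r) (base e)).trans (hAo _)
  have hmem : ∀ p, rep p ∈ Cfsg.Omega F ⇑Q := by
    rintro ((i | j) | e)
    · exact (mem_Omega_iff_rank hQ hR _).2 ⟨(i : ℕ) + 1, by rw [show rep _ = repN i from rfl, hNr]; omega⟩
    · exact (mem_Omega_iff_rank hQ hR _).2 ⟨(j : ℕ) + 1, by rw [show rep _ = repA j from rfl, hAr]; omega⟩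
    · exact (inferInstance : (Cfsg.Omega F ⇑Q).Normal).conj_mem _ ((mem_Omega_iff_rank hQ hR _).2
        ⟨m / 2, by rw [(hbase e).1]; have := (hsplit e).2; omega⟩) r
  have hsq : ∀ p, rep p ^ 2 = 1 := fun p => ((orderOf_omap _).1 (hord p)).1
  have hdata : ∀ e, IsConj (base e) (rep (Sum.inr e)) := fun e => isConj_iff.2 ⟨r, rfl⟩
  -- conjugate representatives are equal
  have hinj : ∀ p p' g, g ∈ Cfsg.Omega F ⇑Q → g * rep p * g⁻¹ = rep p' → p = p' := by
    intro p p' g hg hgp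
    have hO : IsConj (rep p) (rep p') := isConj_iff.2 ⟨g, hgp⟩
    have hdist : ∀ (j : Fin (typeACount ε m)) (e : Fin (splitCount ε m)) (c : ↥(Cfsg.isometryGroup F ⇑Q)),
        c ∈ Cfsg.Omega F ⇑Q → c * repA j * c⁻¹ ≠ r * base e * r⁻¹ := by
      intro j e c hc hce
      have hcj : IsConj (repA j) (base e) := (isConj_iff.2 ⟨c, hce⟩).trans (hdata e).symm
      have e1 : 2 * (j : ℕ) + 2 = m := (hAr j).symm.trans
        (((isConj_iff_rank_typeA hQ (hsq (Sum.inl (Sum.inr j))) ((orderOf_omap _).1 (hAo _)).1).1 hcj).1.trans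
          (hbase e).1)
      have hje : j = ⟨m / 2 - 1, (hsplit e).1⟩ := Fin.ext (by have := (hsplit e).2; show (j : ℕ) = m / 2 - 1; omega)
      subst hje
      have h2 := par_conjugators_eq hQ hι hR ((orderOf_omap _).1 (hAo _)).1 (hbase e)
        (d := r) (b := r * base e * r⁻¹) hce rfl
      rw [hpr, (mem_Omega_iff_par_of_refl hQ hR c).1 hc] at h2
      exact zero_ne_one h2
    rcases p with (i | j) | e <;> rcases p' with (i' | j') | e'
    · have e1 : 2 * (i : ℕ) + 2 = 2 * (i' : ℕ) + 2 := (hNr i).symm.trans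
        (((isConj_iff_rank_typeA hQ (hsq _) (hsq _)).1 hO).1.trans (hNr i'))
      exact congrArg (fun x => Sum.inl (Sum.inl x)) (Fin.ext (by omega))
    · exact ((hNa i).1 (((isConj_iff_rank_typeA hQ (hsq _) (hsq _)).1 hO).2.2 (hAa j'))).elim
    · exact ((hNa i).1 (((isConj_iff_rank_typeA hQ (hsq _) ((orderOf_omap _).1 (hAo _)).1).1
        (hO.trans (hdata e').symm)).2.2 (hbase e').2)).elim
    · exact ((hNa i').1 (((isConj_iff_rank_typeA hQ (hsq _) (hsq _)).1 hO).2.1 (hAa j))).elim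
    · have e1 : 2 * (j : ℕ) + 2 = 2 * (j' : ℕ) + 2 := (hAr j).symm.trans
        (((isConj_iff_rank_typeA hQ (hsq _) (hsq _)).1 hO).1.trans (hAr j'))
      exact congrArg (fun x => Sum.inl (Sum.inr x)) (Fin.ext (by omega))
    · exact absurd hgp (hdist j e' g hg)
    · exact ((hNa i').1 (((isConj_iff_rank_typeA hQ ((orderOf_omap _).1 (hAo _)).1 (hsq _)).1
        ((hdata e).trans hO)).2.1 (hbase e).2)).elim
    · refine absurd ?_ (hdist j' e g⁻¹ (inv_mem hg))
      show g⁻¹ * rep (Sum.inl (Sum.inr j')) * g⁻¹⁻¹ = rep (Sum.inr e)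
      rw [← hgp]
      group
    · have h1 := e.2
      have h2 := e'.2
      refine congrArg Sum.inr (Fin.ext ?_)
      have : splitCount ε m ≤ 1 := by unfold splitCount; split_ifs <;> omega
      omega
  rw [← Nat.card_congr (Equiv.ofBijective
    (fun p => (⟨ConjClasses.mk ⟨rep p, hmem p⟩, ⟨rep p, hmem p⟩, rfl,
      (Subgroup.orderOf_coe _).symm.trans (hord p)⟩ :
      {C : ConjClasses ↥(Cfsg.Omega F ⇑Q) //
        ∃ g : ↥(Cfsg.Omega F ⇑Q), ConjClasses.mk g = C ∧ orderOf g = 2})) ⟨?_, ?_⟩)]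
  · simp
  · intro p p' hpp
    obtain ⟨g, hg, hgp⟩ := (isConj_mk_iff _ _).1 (ConjClasses.mk_eq_mk_iff_isConj.1 (congrArg Subtype.val hpp))
    exact hinj p p' g hg hgp
  · rintro ⟨C, ⟨g, hgm⟩, rfl, hg⟩
    have hgo : orderOf g = 2 := (Subgroup.orderOf_coe (⟨g, hgm⟩ : ↥(Cfsg.Omega F ⇑Q))).trans hg
    obtain ⟨hpos, hle, -, -⟩ := data_of_orderOf_two hQ hι hgo
    have hg2 := ((orderOf_omap g).1 hgo).1
    obtain ⟨k, hk⟩ := (mem_Omega_iff_rank hQ hR g).1 hgm
    suffices ∃ p, ∃ c ∈ Cfsg.Omega F ⇑Q, c * rep p * c⁻¹ = g by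
      obtain ⟨p, hp⟩ := this
      exact ⟨p, Subtype.ext (ConjClasses.mk_eq_mk_iff_isConj.2 ((isConj_mk_iff _ _).2 hp))⟩
    by_cases ha : IsTypeA (polarBilin Q) (omap g)
    · obtain ⟨j, hj⟩ := typeA_index hQ hι ε hε hgo ha
      have hconj : IsConj (repA j) g := (isConj_iff_rank_typeA hQ (hsq (Sum.inl (Sum.inr j))) hg2).2
        ⟨(hAr j).trans hj.symm, iff_of_true (hAa j) ha⟩
      by_cases hex : IsExceptional m (repA j)
      · obtain ⟨c, hc⟩ := isConj_iff.1 hconj
        rcases (show ∀ e : ZMod 2, e = 0 ∨ e = 1 by decide) (par (oEquiv Q c)) with hp | hp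
        · exact ⟨Sum.inl (Sum.inr j), c, (mem_Omega_iff_par_of_refl hQ hR c).2 hp, hc⟩
        · have hjm : 2 * (j : ℕ) + 2 = m := (hAr j).symm.trans hex.1
          have hεt : ε = true := by
            by_contra hf
            rw [Bool.not_eq_true] at hf
            have := j.2
            simp [typeACount, hf] at this
            omega
          have he : 0 < splitCount ε m := by
            simp [splitCount, hεt, show Even m from ⟨(j : ℕ) + 1, by omega⟩]
          have hje : j = ⟨m / 2 - 1, (hsplit ⟨0, he⟩).1⟩ := Fin.ext (by show (j : ℕ) = m / 2 - 1; omega)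
          refine ⟨Sum.inr ⟨0, he⟩, c * r⁻¹, (mem_Omega_iff_par_of_refl hQ hR _).2 ?_, ?_⟩
          · rw [map_mul, par_mul hQ hR, hp, map_inv, hrdef, MulEquiv.apply_symm_apply,
              inv_eq_of_mul_eq_one_right (refl_mul_self hv), par_refl hQ]
            decide
          · show c * r⁻¹ * (r * repA ⟨m / 2 - 1, _⟩ * r⁻¹) * (c * r⁻¹)⁻¹ = g
            rw [← hje, ← hc]
            group
      · exact ⟨Sum.inl (Sum.inr j), exists_omega_conj_of_not_exceptional hQ hι hR
          (hsq (Sum.inl (Sum.inr j))) hconj hex⟩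
    · let i : Fin (m / 2) := ⟨k - 1, by omega⟩
      have hconj : IsConj (repN i) g := (isConj_iff_rank_typeA hQ (hsq (Sum.inl (Sum.inl i))) hg2).2
        ⟨(hNr i).trans (by show 2 * (k - 1) + 2 = _; omega), iff_of_false (fun h => (hNa i).1 h) ha⟩
      exact ⟨Sum.inl (Sum.inl i), exists_omega_conj_of_not_exceptional hQ hι hR
        (hsq (Sum.inl (Sum.inl i))) hconj fun h => (hNa i).1 h.2⟩

omit [CharP F 2] in
/-- The isometry group of a minus form is generated by reflections. -/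
theorem reflGroup_qMinus_eq_top {a b : F}
    (hab : ∀ z₁ z₂ : F, z₁ ^ 2 + a * z₁ * z₂ + b * z₂ ^ 2 = 0 → z₁ = 0 ∧ z₂ = 0) (k : ℕ) :
    reflGroup (qMinus k F a b) = ⊤ := by
  by_cases hk : k = 1
  · subst hk
    exact reflGroup_eq_top_witt_one (qMinus_nondeg hab 1) (qMinus_no_half hab 1)
  · exact reflGroup_pi_eq_top (qMinus_nondeg hab k)
      (Or.inr (by simp only [Fintype.card_sum, Fintype.card_fin]; omega))

end CfsgLib.Classical.CharTwo
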