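import Cfsg.Agent.Lib.Classical.CharTwo.OrthMatrix

/-!
# The signs of the standard forms
-/

set_option autoImplicit false

namespace CfsgLib.Classical.CharTwo

open scoped Matrix
open QuadraticMap (polar polarBilin)
open CfsgLib.Classical.Quad

variable {F : Type*} [Field F] [CharP F 2] [Fintype F] [DecidableEq F]

theorem sum_psi_mul (x : F) : ∑ y : F, psi (x * y) = if x = 0 then (Fintype.card F : ℤ) else 0 := by
  split_ifs with h
  · simp [h, psi_zero]
  · obtain ⟨c, hc⟩ := exists_psi_neg (F := F)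
    exact sum_psi_eq_zero (fun y => x * y) (fun a b => mul_add x a b) (a₀ := c / x)
      (by rw [mul_div_cancel₀ _ h, hc])

theorem signSum_qPlus (m : ℕ) : signSum ⇑(qPlus m F) = (Fintype.card F : ℤ) ^ m := by
  have hone : ∑ p : F × F, psi (p.1 * p.2) = (Fintype.card F : ℤ) := by
    rw [Fintype.sum_prod_type]
    simp only [sum_psi_mul]
    rw [Finset.sum_ite_eq' Finset.univ (0 : F), if_pos (Finset.mem_univ _)]
  induction m with
  | zero =>
    unfold signSum
    simp [coe_qPlus, Cfsg.quadFormPlus, psi_zero]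
  | succ m ih =>
    unfold signSum at ih ⊢
    rw [← Equiv.sum_comp (plusSplit m F).symm.toEquiv (fun v => psi (qPlus (m + 1) F v))]
    have e : ∀ p : F × F × (Fin m ⊕ Fin m → F),
        psi (qPlus (m + 1) F ((plusSplit m F).symm.toEquiv p)) =
          psi (p.1 * p.2.1) * psi (qPlus m F p.2.2) := fun p => by
      show psi (qPlus (m + 1) F ((plusSplit m F).symm p)) = _
      rw [← plusSplit_preserves, LinearEquiv.apply_symm_apply, hyp_apply, psi_add]
    rw [Finset.sum_congr rfl fun p _ => e p, Fintype.sum_prod_type]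
    simp only [Fintype.sum_prod_type, ← Finset.mul_sum, ih, ← Finset.sum_mul]
    rw [Fintype.sum_prod_type] at hone
    rw [hone, pow_succ, mul_comm]

theorem signSum_qBin {a b : F}
    (hab : ∀ z₁ z₂ : F, z₁ ^ 2 + a * z₁ * z₂ + b * z₂ ^ 2 = 0 → z₁ = 0 ∧ z₂ = 0) :
    signSum ⇑(qBin a b) = -(Fintype.card F : ℤ) := by
  unfold signSum
  rw [← Equiv.sum_comp (finTwoArrowEquiv F).symm, Fintype.sum_prod_type, Finset.sum_comm]
  simp only [qBin_apply, finTwoArrowEquiv_symm_apply, Matrix.cons_val_zero, Matrix.cons_val_one]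
  rw [← Finset.add_sum_erase Finset.univ _ (Finset.mem_univ (0 : F))]
  have h0 : ∑ x : F, psi (x ^ 2 + a * x * 0 + b * 0 ^ 2) = 0 := by
    simp only [mul_zero, add_zero, zero_pow two_ne_zero, psi_sq]
    have := sum_psi_mul (1 : F)
    simpa using this
  rw [h0, zero_add]
  have e : ∀ y ∈ Finset.univ.erase (0 : F), ∑ x : F, psi (x ^ 2 + a * x * y + b * y ^ 2) =
      ∑ x : F, psi (y ^ 2 * (x ^ 2 + a * x + b)) := by
    intro y hy
    rw [← Equiv.sum_comp (Equiv.mulRight₀ y (Finset.mem_erase.1 hy).1)]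
    refine Finset.sum_congr rfl fun x _ => ?_
    show psi ((x * y) ^ 2 + a * (x * y) * y + b * y ^ 2) = psi (y ^ 2 * (x ^ 2 + a * x + b))
    congr 1
    ring
  rw [Finset.sum_congr rfl e, Finset.sum_comm]
  have hsq : ∀ x : F, ∑ y ∈ Finset.univ.erase (0 : F), psi (y ^ 2 * (x ^ 2 + a * x + b)) = -1 := by
    intro x
    have hne : x ^ 2 + a * x + b ≠ 0 := fun h => one_ne_zero (hab x 1 (by rw [mul_one, one_pow, mul_one, h])).2
    have hfull := Equiv.sum_comp (frobeniusEquiv F 2).toEquiv (fun y => psi ((x ^ 2 + a * x + b) * y))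
    rw [sum_psi_mul, if_neg hne, ← Finset.add_sum_erase Finset.univ _ (Finset.mem_univ (0 : F))] at hfull
    simp only [RingEquiv.toEquiv_eq_coe, EquivLike.coe_coe, frobeniusEquiv_apply, frobenius_def,
      mul_zero, zero_pow two_ne_zero, psi_zero] at hfull
    rw [Finset.sum_congr rfl fun y _ => by rw [mul_comm]]
    linarith
  rw [Finset.sum_congr rfl fun x _ => hsq x]
  simp

theorem signSum_qMinus {a b : F}
    (hab : ∀ z₁ z₂ : F, z₁ ^ 2 + a * z₁ * z₂ + b * z₂ ^ 2 = 0 → z₁ = 0 ∧ z₂ = 0) (m : ℕ) :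
    signSum ⇑(qMinus m F a b) = -(Fintype.card F : ℤ) ^ (m + 1) := by
  have h1 : ∑ v, psi (qPlus m F v) = (Fintype.card F : ℤ) ^ m := signSum_qPlus m
  have h2 : ∑ v, psi (qBin a b v) = -(Fintype.card F : ℤ) := signSum_qBin hab
  unfold signSum
  rw [← Equiv.sum_comp (Equiv.sumArrowEquivProdArrow (Fin m ⊕ Fin m) (Fin 2) F).symm,
    Fintype.sum_prod_type]
  have e : ∀ u w, qMinus m F a b ((Equiv.sumArrowEquivProdArrow (Fin m ⊕ Fin m) (Fin 2) F).symm (u, w)) =
      qPlus m F u + qBin a b w := by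
    intro u w
    rw [coe_qMinus, coe_qPlus, qBin_apply]
    rfl
  simp only [e, psi_add, ← Finset.mul_sum, h2, ← Finset.sum_mul, h1]
  ring

end CfsgLib.Classical.CharTwo
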