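import Cfsg.Agent.Lib.Classical.Iso

/-!
# Square-zero self-adjoint maps of a sesquilinear space in characteristic two

An involutive isometry `t` of a non-degenerate conjugate symmetric form `B` in characteristic two
gives `T = t + 1` with `T² = 0` and `B (T u) v = B u (T v)`.  A frame for `T` with Gram matrix `S`
is a totally isotropic family `x` with `B (x i) (T (x j)) = S i j`.  Frames determine `T` up to
isometry and give the order of the centraliser.
-/

set_option autoImplicit false

namespace CfsgLib.Classical.CharTwo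

open scoped Matrix

variable {F : Type*} [Field F] {V : Type*} [AddCommGroup V] [Module F V] {σ : F →+* F}
  {B : V →ₛₗ[σ] V →ₗ[F] F} {T T' : V →ₗ[F] V}

/-- A non-degenerate conjugate symmetric form with a self-adjoint map of square zero. -/
structure SqZero (B : V →ₛₗ[σ] V →ₗ[F] F) (T : V →ₗ[F] V) : Prop where
  symm : ∀ u v, σ (B u v) = B v u
  nondeg : ∀ u, (∀ v, B u v = 0) → u = 0
  sq : ∀ v, T (T v) = 0
  adj : ∀ u v, B (T u) v = B u (T v)

namespace SqZero

theorem eq_zero_of_right (h : SqZero B T) {v : V} (hv : ∀ u, B u v = 0) : v = 0 :=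
  h.nondeg v fun u => by rw [← h.symm, hv, map_zero]

theorem map_range (h : SqZero B T) (u v : V) : B (T u) (T v) = 0 := by
  rw [h.adj, h.sq, map_zero]

theorem mem_ker_iff (h : SqZero B T) {v : V} : v ∈ LinearMap.ker T ↔ ∀ u, B (T u) v = 0 := by
  refine ⟨fun hv u => ?_, fun hv => LinearMap.mem_ker.2 (h.eq_zero_of_right fun u => ?_)⟩
  · rw [h.adj, LinearMap.mem_ker.1 hv, map_zero]
  · rw [← h.adj]; exact hv u

end SqZero

section Frames

variable {ι : Type*} [Fintype ι] [DecidableEq ι]

/-- A totally isotropic family with `T`-Gram matrix `S`. -/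
def IsFrame (B : V →ₛₗ[σ] V →ₗ[F] F) (T : V →ₗ[F] V) (S : Matrix ι ι F) (x : ι → V) : Prop :=
  (∀ i j, B (x i) (x j) = 0) ∧ ∀ i j, B (x i) (T (x j)) = S i j

/-- The pairings of a vector with the members of a frame and their images. -/
def pairing (B : V →ₛₗ[σ] V →ₗ[F] F) (T : V →ₗ[F] V) (x : ι → V) :
    V →ₗ[F] (ι → F) × (ι → F) :=
  (LinearMap.pi fun j => B (T (x j))).prod (LinearMap.pi fun j => B (x j))

/-- Combinations of the members of a family and their images. -/
def comb (T : V →ₗ[F] V) (x : ι → V) : (ι → F) × (ι → F) →ₗ[F] V :=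
  (Fintype.linearCombination F x).coprod (Fintype.linearCombination F fun i => T (x i))

omit [DecidableEq ι] in
theorem comb_apply (x : ι → V) (p : (ι → F) × (ι → F)) :
    comb T x p = (∑ i, p.1 i • x i) + ∑ i, p.2 i • T (x i) := by
  simp [comb, Fintype.linearCombination_apply]

omit [DecidableEq ι] in
theorem pairing_fst (x : ι → V) (v : V) (j : ι) : (pairing B T x v).1 j = B (T (x j)) v := rfl

omit [DecidableEq ι] in
theorem pairing_snd (x : ι → V) (v : V) (j : ι) : (pairing B T x v).2 j = B (x j) v := rfl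

omit [DecidableEq ι] in
theorem comb_pairing (x : ι → V) (p : (ι → F) × (ι → F)) (v : V) :
    B (comb T x p) v = (∑ i, σ (p.1 i) * (pairing B T x v).2 i) +
      ∑ i, σ (p.2 i) * (pairing B T x v).1 i := by
  simp [comb_apply, pairing_fst, pairing_snd, map_sum, LinearMap.sum_apply]

/-- The perpendicular space of a frame and its image. -/
def framePerp (B : V →ₛₗ[σ] V →ₗ[F] F) (T : V →ₗ[F] V) (x : ι → V) : Submodule F V :=
  LinearMap.ker (pairing B T x)

omit [DecidableEq ι] in
theorem mem_framePerp {x : ι → V} {v : V} :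
    v ∈ framePerp B T x ↔ (∀ j, B (T (x j)) v = 0) ∧ ∀ j, B (x j) v = 0 := by
  rw [framePerp, LinearMap.mem_ker, Prod.ext_iff, funext_iff, funext_iff]
  rfl

variable {S : Matrix ι ι F} {x : ι → V}

theorem linearIndependent_image (hS : IsUnit S.det) (hx : ∀ i j, B (x i) (T (x j)) = S i j) :
    LinearIndependent F fun i => T (x i) := by
  rw [Fintype.linearIndependent_iff]
  intro c hc
  have h1 : S *ᵥ c = 0 := by
    funext i
    have := congrArg (B (x i)) hc
    simpa [Matrix.mulVec, dotProduct, map_sum, hx, mul_comm] using this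
  exact congrFun (Matrix.eq_zero_of_mulVec_eq_zero hS.ne_zero h1)

theorem span_image_eq_range [FiniteDimensional F V] (hS : IsUnit S.det)
    (hx : ∀ i j, B (x i) (T (x j)) = S i j)
    (hs : Module.finrank F (LinearMap.range T) = Fintype.card ι) :
    Submodule.span F (Set.range fun i => T (x i)) = LinearMap.range T := by
  refine Submodule.eq_of_le_of_finrank_eq (Submodule.span_le.2 ?_) ?_
  · rintro _ ⟨i, rfl⟩
    exact ⟨x i, rfl⟩
  · rw [finrank_span_eq_card (linearIndependent_image hS hx), hs]

variable (h : SqZero B T) (hx : IsFrame B T S x) (hS : IsUnit S.det)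

include h hx in
theorem pairing_comb (p : (ι → F) × (ι → F)) :
    pairing B T x (comb T x p) = (S *ᵥ p.1, S *ᵥ p.2) := by
  refine Prod.ext (funext fun j => ?_) (funext fun j => ?_)
  · rw [pairing_fst, comb_apply, map_add, map_sum, map_sum]
    simp [h.map_range, h.adj (x j), h.sq, hx.2, Matrix.mulVec, dotProduct, mul_comm]
  · rw [pairing_snd, comb_apply, map_add, map_sum, map_sum]
    simp [hx.1, hx.2, Matrix.mulVec, dotProduct, mul_comm]

/-- The coordinates of a vector on a frame. -/
noncomputable def coef (B : V →ₛₗ[σ] V →ₗ[F] F) (T : V →ₗ[F] V) (S : Matrix ι ι F) (x : ι → V) :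
    V →ₗ[F] (ι → F) × (ι → F) :=
  ((Matrix.mulVecLin S⁻¹).prodMap (Matrix.mulVecLin S⁻¹)) ∘ₗ pairing B T x

include h hx hS in
theorem coef_comb (p : (ι → F) × (ι → F)) : coef B T S x (comb T x p) = p := by
  simp [coef, pairing_comb h hx, Matrix.mulVec_mulVec, Matrix.nonsing_inv_mul _ hS]

include hS in
theorem mulVec_coef (v : V) :
    (S *ᵥ (coef B T S x v).1, S *ᵥ (coef B T S x v).2) = pairing B T x v := by
  simp [coef, Matrix.mulVec_mulVec, Matrix.mul_nonsing_inv _ hS]

include h hx hS in
theorem sub_comb_mem (v : V) : v - comb T x (coef B T S x v) ∈ framePerp B T x := by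
  rw [framePerp, LinearMap.mem_ker, map_sub, pairing_comb h hx, mulVec_coef hS, sub_self]

include hS in
theorem coef_eq_zero {v : V} (hv : v ∈ framePerp B T x) : coef B T S x v = 0 := by
  rw [framePerp, LinearMap.mem_ker] at hv
  simp [coef, hv]

include h hx in
theorem comb_perp (p : (ι → F) × (ι → F)) {v : V} (hv : v ∈ framePerp B T x) :
    B (comb T x p) v = 0 := by
  rw [framePerp, LinearMap.mem_ker] at hv
  simp [comb_pairing, hv]

include h hx hS in
theorem framePerp_nondeg {u : V} (hu : u ∈ framePerp B T x)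
    (hn : ∀ v ∈ framePerp B T x, B u v = 0) : u = 0 := by
  refine h.nondeg u fun v => ?_
  rw [show v = comb T x (coef B T S x v) + (v - comb T x (coef B T S x v)) by rw [add_sub_cancel],
    map_add, hn _ (sub_comb_mem h hx hS v), ← h.symm, comb_perp h hx _ hu, map_zero, add_zero]

section Range

variable [FiniteDimensional F V] (hs : Module.finrank F (LinearMap.range T) = Fintype.card ι)

include h hx hS hs in
theorem framePerp_le_ker : framePerp B T x ≤ LinearMap.ker T := by
  intro v hv
  have hle : LinearMap.range T ≤ LinearMap.ker ((B.flip v) : V →ₛₗ[σ] F) := by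
    rw [← span_image_eq_range hS hx.2 hs, Submodule.span_le]
    rintro _ ⟨i, rfl⟩
    exact (mem_framePerp.1 hv).1 i
  exact h.mem_ker_iff.2 fun u => hle ⟨u, rfl⟩

include h hx hS hs in
theorem coef_map (v : V) : coef B T S x (T v) = (0, (coef B T S x v).1) := by
  have : pairing B T x (T v) = (0, (pairing B T x v).1) := by
    refine Prod.ext (funext fun j => ?_) (funext fun j => ?_)
    · rw [pairing_fst]; exact h.map_range _ _
    · rw [pairing_snd, ← h.adj]; rfl
  simp [coef, this]

include h hx hS hs in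
theorem map_rest (v : V) :
    T v - comb T x (coef B T S x (T v)) = 0 := by
  rw [coef_map h hx hS hs]
  have h0 := LinearMap.mem_ker.1 (framePerp_le_ker h hx hS hs (sub_comb_mem h hx hS v))
  rw [map_sub] at h0
  rw [← h0]
  congr 1
  simp [comb_apply, map_sum, h.sq]

include h hx hS in
theorem finrank_framePerp :
    Module.finrank F (framePerp B T x) + 2 * Fintype.card ι = Module.finrank F V := by
  have hsurj : Function.Surjective (pairing B T x) := fun p =>
    ⟨comb T x (S⁻¹ *ᵥ p.1, S⁻¹ *ᵥ p.2), by
      rw [pairing_comb h hx]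
      simp [Matrix.mulVec_mulVec, Matrix.mul_nonsing_inv _ hS]⟩
  have := LinearMap.finrank_range_add_finrank_ker (pairing B T x)
  rw [LinearMap.range_eq_top.2 hsurj, finrank_top, Module.finrank_prod,
    Module.finrank_fintype_fun_eq_card] at this
  rw [framePerp]
  omega

end Range

/-! ### Extending frame maps -/

variable {x' : ι → V}

/-- The map sending one frame to another and the perpendicular spaces by `e`. -/
noncomputable def frameMap (h : SqZero B T) (hx : IsFrame B T S x) (hS : IsUnit S.det)
    (T' : V →ₗ[F] V) (x' : ι → V) (e : framePerp B T x →ₗ[F] V) : V →ₗ[F] V :=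
  comb T' x' ∘ₗ coef B T S x +
    e ∘ₗ LinearMap.codRestrict (framePerp B T x) (LinearMap.id - comb T x ∘ₗ coef B T S x)
      fun v => sub_comb_mem h hx hS v

variable (h' : SqZero B T') (hx' : IsFrame B T' S x')

theorem frameMap_frame (e : framePerp B T x →ₗ[F] V) (i : ι) :
    frameMap h hx hS T' x' e (x i) = x' i := by
  have hc : comb T x (Pi.single i 1, 0) = x i := by simp [comb_apply, Pi.single_apply, ite_smul]
  have h1 : coef B T S x (x i) = (Pi.single i 1, 0) := by
    conv_lhs => rw [← hc]
    exact coef_comb h hx hS _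
  have h2 : (⟨x i - comb T x (coef B T S x (x i)), sub_comb_mem h hx hS _⟩ :
      framePerp B T x) = 0 := Subtype.ext (by simp [h1, hc])
  show comb T' x' (coef B T S x (x i)) +
    e ⟨x i - comb T x (coef B T S x (x i)), sub_comb_mem h hx hS _⟩ = _
  rw [h2, map_zero, add_zero, h1]
  simp [comb_apply, Pi.single_apply, ite_smul]

theorem frameMap_perp (e : framePerp B T x →ₗ[F] V) (u : framePerp B T x) :
    frameMap h hx hS T' x' e u = e u := by
  have h2 : (⟨(u : V) - comb T x (coef B T S x u), sub_comb_mem h hx hS _⟩ :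
      framePerp B T x) = u := Subtype.ext (by simp [coef_eq_zero hS u.2])
  show comb T' x' (coef B T S x u) +
    e ⟨(u : V) - comb T x (coef B T S x u), sub_comb_mem h hx hS _⟩ = _
  rw [h2, coef_eq_zero hS u.2, map_zero, zero_add]

variable [FiniteDimensional F V] (hs : Module.finrank F (LinearMap.range T) = Fintype.card ι)
  (hs' : Module.finrank F (LinearMap.range T') = Fintype.card ι)

include hs hs' h' hx' in
theorem frameMap_comm (e : framePerp B T x →ₗ[F] V) (he : ∀ u, e u ∈ framePerp B T' x') (v : V) :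
    frameMap h hx hS T' x' e (T v) = T' (frameMap h hx hS T' x' e v) := by
  have h2 : (⟨T v - comb T x (coef B T S x (T v)), sub_comb_mem h hx hS _⟩ :
      framePerp B T x) = 0 := Subtype.ext (map_rest h hx hS hs v)
  show comb T' x' (coef B T S x (T v)) +
      e ⟨T v - comb T x (coef B T S x (T v)), sub_comb_mem h hx hS _⟩ =
    T' (comb T' x' (coef B T S x v) + e ⟨v - comb T x (coef B T S x v), sub_comb_mem h hx hS _⟩)
  rw [h2, map_zero, add_zero, map_add,
    LinearMap.mem_ker.1 (framePerp_le_ker h' hx' hS hs' (he _)), add_zero, coef_map h hx hS hs]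
  simp [comb_apply, map_sum, h'.sq]

include h' hx' in
theorem frameMap_isometry (e : framePerp B T x →ₗ[F] V) (he : ∀ u, e u ∈ framePerp B T' x')
    (hiso : ∀ u u', B (e u) (e u') = B (u : V) u') (v w : V) :
    B (frameMap h hx hS T' x' e v) (frameMap h hx hS T' x' e w) = B v w := by
  set u : framePerp B T x := ⟨v - comb T x (coef B T S x v), sub_comb_mem h hx hS _⟩
  set u' : framePerp B T x := ⟨w - comb T x (coef B T S x w), sub_comb_mem h hx hS _⟩
  show B (comb T' x' (coef B T S x v) + e u) (comb T' x' (coef B T S x w) + e u') = _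
  have ev : v = comb T x (coef B T S x v) + (u : V) := by simp [u]
  have ew : w = comb T x (coef B T S x w) + (u' : V) := by simp [u']
  conv_rhs => rw [ev, ew]
  simp only [map_add, LinearMap.add_apply, comb_perp h' hx' _ (he _), comb_perp h hx _ u'.2, hiso]
  rw [← h'.symm (comb T' x' _) (e u), comb_perp h' hx' _ (he _),
    ← h.symm (comb T x _) (u : V), comb_perp h hx _ u.2, comb_pairing, comb_pairing,
    pairing_comb h hx, pairing_comb h' hx']

include hS hs hs' h h' hx hx' in
/-- Frames with equal Gram matrices and an isometry of their perpendicular spaces give an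
isometry carrying `T` to `T'`. -/
theorem exists_iso (e : framePerp B T x ≃ₗ[F] framePerp B T' x')
    (hiso : ∀ u u', B (e u : V) (e u' : V) = B (u : V) u') :
    ∃ g : Iso F (fun u v => B u v), (∀ v, (g : V ≃ₗ[F] V) (T v) = T' ((g : V ≃ₗ[F] V) v)) ∧
      (∀ i, (g : V ≃ₗ[F] V) (x i) = x' i) ∧ ∀ u : framePerp B T x, (g : V ≃ₗ[F] V) u = e u := by
  set e' : framePerp B T x →ₗ[F] V := (framePerp B T' x').subtype ∘ₗ e.toLinearMap
  have hi := frameMap_isometry h hx hS h' hx' e' (fun u => (e u).2) hiso
  have hinj : Function.Injective (frameMap h hx hS T' x' e') := by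
    rw [injective_iff_map_eq_zero]
    intro v hv
    refine h.nondeg v fun w => ?_
    rw [← hi, hv, map_zero, LinearMap.zero_apply]
  exact ⟨⟨LinearEquiv.ofBijective _ ⟨hinj, LinearMap.injective_iff_surjective.1 hinj⟩, hi⟩,
    frameMap_comm h hx hS h' hx' hs hs' e' fun u => (e u).2,
    frameMap_frame h hx hS e', frameMap_perp h hx hS e'⟩

omit [DecidableEq ι] [FiniteDimensional F V] in
theorem map_framePerp (g : Iso F (fun u v => B u v))
    (hg : ∀ v, (g : V ≃ₗ[F] V) (T v) = T' ((g : V ≃ₗ[F] V) v))
    (hgx : ∀ i, (g : V ≃ₗ[F] V) (x i) = x' i) (u : V) :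
    (g : V ≃ₗ[F] V) u ∈ framePerp B T' x' ↔ u ∈ framePerp B T x := by
  rw [mem_framePerp, mem_framePerp]
  simp only [← hgx, ← hg, Iso.map_eq (f := fun u v => B u v) g]

/-! ### The centraliser -/

/-- The isometries commuting with `T`. -/
def centr (B : V →ₛₗ[σ] V →ₗ[F] F) (T : V →ₗ[F] V) : Subgroup (Iso F (fun u v => B u v)) where
  carrier := {g | ∀ v, (g : V ≃ₗ[F] V) (T v) = T ((g : V ≃ₗ[F] V) v)}
  mul_mem' {a b} ha hb := fun v => by
    simp only [Subgroup.coe_mul, LinearEquiv.mul_apply]
    rw [hb, ha]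
  one_mem' := fun _ => rfl
  inv_mem' {a} ha := fun v => by
    show (a : V ≃ₗ[F] V).symm (T v) = T ((a : V ≃ₗ[F] V).symm v)
    rw [LinearEquiv.symm_apply_eq, ha, LinearEquiv.apply_symm_apply]

omit [DecidableEq ι] [FiniteDimensional F V] in
theorem mem_centr {g : Iso F (fun u v => B u v)} :
    g ∈ centr B T ↔ ∀ v, (g : V ≃ₗ[F] V) (T v) = T ((g : V ≃ₗ[F] V) v) := Iff.rfl

include hS hs h hx in
/-- The centraliser is in bijection with frames and isometries of a perpendicular space. -/
theorem card_centr
    (hcls : ∀ y : ι → V, IsFrame B T S y → ∃ e : framePerp B T x ≃ₗ[F] framePerp B T y,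
      ∀ u u', B (e u : V) (e u' : V) = B (u : V) u') :
    Nat.card (centr B T) = Nat.card {y : ι → V // IsFrame B T S y} *
      Nat.card (Iso F (restr (fun u v => B u v) (framePerp B T x))) := by
  have hfr : ∀ g : centr B T, IsFrame B T S fun i =>
      ((g : Iso F (fun u v => B u v)) : V ≃ₗ[F] V) (x i) := fun g =>
    ⟨fun i j => (Iso.map_eq (f := fun u v => B u v) g.1 _ _).trans (hx.1 i j), fun i j => by
      simp only [← mem_centr.1 g.2]
      exact (Iso.map_eq (f := fun u v => B u v) g.1 _ _).trans (hx.2 i j)⟩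
  choose e he using fun y : {y : ι → V // IsFrame B T S y} => hcls y.1 y.2
  choose g hgT hgx hgu using fun y : {y : ι → V // IsFrame B T S y} =>
    exists_iso h hx hS h y.2 hs hs (e y) (he y)
  choose k hkT hkx hku using fun w : Iso F (restr (fun u v => B u v) (framePerp B T x)) =>
    exists_iso h hx hS h hx hs hs (w : framePerp B T x ≃ₗ[F] framePerp B T x) (fun u u' => w.2 u u')
  rw [← Nat.card_prod]
  refine (Nat.card_congr (Equiv.ofBijective
    (fun p : {y : ι → V // IsFrame B T S y} × _ =>
      (⟨g p.1 * k p.2, mul_mem (mem_centr.2 (hgT p.1)) (mem_centr.2 (hkT p.2))⟩ : centr B T))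
    ⟨fun p p' hpp => ?_, fun a => ?_⟩)).symm
  · have hval := congrArg (fun a : centr B T => ((a : Iso F (fun u v => B u v)) : V ≃ₗ[F] V)) hpp
    simp only [Subgroup.coe_mul] at hval
    have h1 : p.1 = p'.1 := Subtype.ext (funext fun i => by
      have := LinearEquiv.congr_fun hval (x i)
      simpa [LinearEquiv.mul_apply, hkx, hgx] using this)
    refine Prod.ext h1 (Subtype.ext (LinearEquiv.ext fun u => Subtype.ext ?_))
    have := LinearEquiv.congr_fun hval (u : V)
    rw [h1] at this
    simp only [LinearEquiv.mul_apply, hku] at this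
    exact (g p'.1 : V ≃ₗ[F] V).injective this
  · set y : {y : ι → V // IsFrame B T S y} := ⟨_, hfr a⟩
    have hb : (g y)⁻¹ * (a : Iso F (fun u v => B u v)) ∈ centr B T :=
      mul_mem (inv_mem (mem_centr.2 (hgT y))) a.2
    set b := (g y)⁻¹ * (a : Iso F (fun u v => B u v)) with hbdef
    have hbx : ∀ i, (b : V ≃ₗ[F] V) (x i) = x i := fun i => by
      show (g y : V ≃ₗ[F] V).symm (((a : Iso F (fun u v => B u v)) : V ≃ₗ[F] V) (x i)) = x i
      rw [LinearEquiv.symm_apply_eq, hgx]
    let w : framePerp B T x ≃ₗ[F] framePerp B T x :=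
      (b : V ≃ₗ[F] V).ofSubmodules _ _ (by
        ext v
        rw [Submodule.mem_map_equiv, ← map_framePerp b hb hbx, LinearEquiv.apply_symm_apply])
    refine ⟨(y, ⟨w, fun u u' => ?_⟩), Subtype.ext ?_⟩
    · exact Iso.map_eq (f := fun u v => B u v) b _ _
    · have hk : k ⟨w, fun u u' => Iso.map_eq (f := fun u v => B u v) b (u : V) (u' : V)⟩ = b := by
        refine Subtype.ext (LinearEquiv.ext fun v => ?_)
        rw [show v = comb T x (coef B T S x v) + (v - comb T x (coef B T S x v)) by rw [add_sub_cancel],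
          map_add, map_add]
        congr 1
        · simp [comb_apply, map_sum, hkT, hkx, hb _, hbx]
        · exact hku _ ⟨_, sub_comb_mem h hx hS v⟩
      simp only [hk, hbdef, mul_inv_cancel_left]

end Frames

end CfsgLib.Classical.CharTwo
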