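import Cfsg.Agent.Lib.Classical.CharTwo.Frame

/-!
# Existence and number of frames
-/

set_option autoImplicit false

namespace CfsgLib.Classical.CharTwo

open scoped Matrix

variable {F : Type*} [Field F] {V : Type*} [AddCommGroup V] [Module F V] {σ : F →+* F}
  {B : V →ₛₗ[σ] V →ₗ[F] F} {T : V →ₗ[F] V}

variable {ι : Type*} [Fintype ι] [DecidableEq ι] {S : Matrix ι ι F} {x : ι → V}

/-- The shift of a family by combinations of the images of another one. -/
def shift (T : V →ₗ[F] V) (x : ι → V) (M : Matrix ι ι F) (i : ι) : V := ∑ l, M i l • T (x l)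

omit [DecidableEq ι] in
theorem map_shift (h : SqZero B T) (M : Matrix ι ι F) (i : ι) : T (shift T x M i) = 0 := by
  simp [shift, map_sum, h.sq]

omit [DecidableEq ι] in
theorem apply_shift (hx : ∀ i j, B (x i) (T (x j)) = S i j) (M : Matrix ι ι F) (i j : ι) :
    B (x i) (shift T x M j) = (S * Mᵀ) i j := by
  simp [shift, map_sum, hx, Matrix.mul_apply, mul_comm]

omit [DecidableEq ι] in
theorem shift_shift (h : SqZero B T) (M M' : Matrix ι ι F) (i j : ι) :
    B (shift T x M i) (shift T x M' j) = 0 := by
  simp [shift, map_sum, LinearMap.sum_apply, h.map_range]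

theorem shift_linearIndependent (hS : IsUnit S.det) (hx : ∀ i j, B (x i) (T (x j)) = S i j) : Function.Injective (shift T x : Matrix ι ι F → ι → V) := by
  intro M M' hMM
  have hli := linearIndependent_image hS hx
  funext i l
  exact congrFun (hli.fintypeLinearCombination_injective (a₁ := M i) (a₂ := M' i)
    (by simpa [shift, Fintype.linearCombination_apply] using congrFun hMM i)) l

/-- Solutions of `N i j + σ (N j i) = a i j`. -/
theorem exists_half (hσ : ∀ c, σ (σ c) = c) (a : Matrix ι ι F) (ha : ∀ i j, σ (a i j) = a j i)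
    (hd : ∀ i, ∃ c, c + σ c = a i i) : ∃ N : Matrix ι ι F, ∀ i j, N i j + σ (N j i) = a i j := by
  choose c hc using hd
  set e := Fintype.equivFin ι
  refine ⟨fun i j => if e i < e j then a i j else if e j < e i then 0 else c i, fun i j => ?_⟩
  rcases lt_trichotomy (e i) (e j) with hlt | heq | hgt
  · simp [hlt, not_lt.2 hlt.le]
  · obtain rfl := e.injective heq
    simp [hc]
  · simp [hgt, not_lt.2 hgt.le, ha]

variable (h : SqZero B T) (hS : IsUnit S.det)

include h in
theorem σ_σ [Nontrivial V] (c : F) : σ (σ c) = c := by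
  obtain ⟨v, hv⟩ := exists_ne (0 : V)
  obtain ⟨w, hw⟩ : ∃ w, B v w ≠ 0 := by
    by_contra hcon
    push Not at hcon
    exact hv (h.nondeg v hcon)
  have h1 : B v ((c / B v w) • w) = c := by simp [hw]
  rw [← h1, h.symm, h.symm]

include h hS in
/-- A family with `T`-Gram matrix `S` can be shifted to a frame. -/
theorem exists_isFrame [CharP F 2] (htr : ∀ v, ∃ c, c + σ c = B v v) (y : ι → V)
    (hy : ∀ i j, B (y i) (T (y j)) = S i j) : ∃ x : ι → V, IsFrame B T S x := by
  rcases isEmpty_or_nonempty ι with hι | hι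
  · exact ⟨y, fun i => isEmptyElim i, fun i => isEmptyElim i⟩
  have : Nontrivial V := by
    by_contra hV
    rw [not_nontrivial_iff_subsingleton] at hV
    have hz : S = 0 := by
      ext i j
      rw [← hy, Subsingleton.elim (T (y j)) 0, map_zero]
      rfl
    rw [hz, Matrix.det_zero] at hS
    exact not_isUnit_zero hS
  obtain ⟨N, hN⟩ := exists_half (σ_σ h) (fun i j => B (y i) (y j))
    (fun i j => h.symm _ _) (fun i => htr _)
  set M : Matrix ι ι F := (S⁻¹ * N)ᵀ
  have hM : S * Mᵀ = N := by
    rw [Matrix.transpose_transpose, Matrix.mul_nonsing_inv_cancel_left _ _ hS]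
  refine ⟨fun i => y i + shift T y M i, fun i j => ?_, fun i j => ?_⟩
  · have e5 : B (shift T y M i) (y j) = σ (N j i) := by
      rw [← h.symm, apply_shift hy, hM]
    simp only [map_add, LinearMap.add_apply, shift_shift h, apply_shift hy, hM, e5, add_zero]
    rw [show B (y i) (y j) + σ (N j i) + N i j = B (y i) (y j) + (N i j + σ (N j i)) by ring, hN]
    exact CharTwo.add_self_eq_zero _
  · show B (y i + shift T y M i) (T (y j + shift T y M j)) = S i j
    rw [map_add T, map_shift h, add_zero, map_add, LinearMap.add_apply, hy, ← h.adj (shift T y M i),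
      map_shift h, map_zero, LinearMap.zero_apply, add_zero]

/-- The matrices preserving the Gram matrix `S`. -/
def gramPres (σ : F →+* F) (S : Matrix ι ι F) : Set (Matrix ι ι F) := {A | A.map σ * S * Aᵀ = S}

omit [DecidableEq ι] in
theorem gram_mix (y : ι → V) (f : V →ₗ[F] V) (A A' : Matrix ι ι F) (i j : ι) :
    B (∑ l, A i l • y l) (f (∑ l, A' j l • y l)) =
      (A.map σ * (Matrix.of fun l k => B (y l) (f (y k))) * A'ᵀ) i j := by
  simp only [map_sum, map_smul, LinearMap.map_smulₛₗ, LinearMap.sum_apply, LinearMap.smul_apply,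
    smul_eq_mul, Matrix.mul_apply, Matrix.map_apply, Matrix.transpose_apply, Matrix.of_apply,
    Finset.sum_mul, Finset.mul_sum]
  exact Finset.sum_congr rfl fun k _ => Finset.sum_congr rfl fun l _ => by ring

omit [DecidableEq ι] in
theorem gram_mix' (y : ι → V) (A A' : Matrix ι ι F) (i j : ι) :
    B (∑ l, A i l • y l) (∑ l, A' j l • y l) =
      (A.map σ * (Matrix.of fun l k => B (y l) (y k)) * A'ᵀ) i j :=
  gram_mix y LinearMap.id A A' i j

include hS in
theorem det_ne_zero_of_gramPres {A : Matrix ι ι F} (hA : A ∈ gramPres σ S) : IsUnit A.det := by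
  have := congrArg Matrix.det (show A.map σ * S * Aᵀ = S from hA)
  rw [Matrix.det_mul, Matrix.det_mul, Matrix.det_transpose] at this
  exact isUnit_of_mul_isUnit_right (this ▸ hS)

omit [DecidableEq ι] in
theorem sum_mix (y : ι → V) (A A' : Matrix ι ι F) (i : ι) :
    ∑ l, A i l • ∑ k, A' l k • y k = ∑ k, (A * A') i k • y k := by
  simp only [Finset.smul_sum, smul_smul, Matrix.mul_apply, Finset.sum_smul]
  exact Finset.sum_comm

omit [DecidableEq ι] in
theorem sum_one [DecidableEq ι] (y : ι → V) (i : ι) : ∑ l, (1 : Matrix ι ι F) i l • y l = y i := by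
  simp [Matrix.one_apply, ite_smul]

variable [FiniteDimensional F V] (hx : IsFrame B T S x)
  (hs : Module.finrank F (LinearMap.range T) = Fintype.card ι)

/-- The frames with the same images as `x`. -/
def Lifts (B : V →ₛₗ[σ] V →ₗ[F] F) (T : V →ₗ[F] V) (x : ι → V) : Set (ι → V) :=
  {y | (∀ i j, B (y i) (y j) = 0) ∧ ∀ i, T (y i) = T (x i)}

include h hx in
omit [FiniteDimensional F V] in
theorem gram_lift {y : ι → V} (hy : y ∈ Lifts B T x) (i j : ι) : B (y i) (T (y j)) = S i j := by
  rw [hy.2, ← h.adj, hy.2, h.adj, hx.2]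

include h hS hx hs in
/-- Frames are lifts moved by the matrices preserving `S`. -/
theorem card_frames_eq :
    Nat.card {y : ι → V // IsFrame B T S y} = Nat.card (gramPres σ S) * Nat.card (Lifts B T x) := by
  rw [← Nat.card_prod]
  refine (Nat.card_congr (Equiv.ofBijective
    (fun p : gramPres σ S × Lifts B T x =>
      (⟨fun i => ∑ l, (p.1 : Matrix ι ι F) i l • (p.2 : ι → V) l, fun i j => ?_, fun i j => ?_⟩ :
        {y : ι → V // IsFrame B T S y}))
    ⟨fun p p' hpp => ?_, fun y => ?_⟩)).symm
  · rw [gram_mix', show (Matrix.of fun l k => B ((p.2 : ι → V) l) ((p.2 : ι → V) k)) = 0 from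
      Matrix.ext fun l k => p.2.2.1 l k]
    simp
  · rw [gram_mix, show (Matrix.of fun l k => B ((p.2 : ι → V) l) (T ((p.2 : ι → V) k))) = S from
      Matrix.ext fun l k => gram_lift h hx p.2.2 l k]
    exact congrFun (congrFun p.1.2 i) j
  · have h1 : ∀ i, ∑ l, (p.1 : Matrix ι ι F) i l • (p.2 : ι → V) l =
        ∑ l, (p'.1 : Matrix ι ι F) i l • (p'.2 : ι → V) l :=
      fun i => congrFun (congrArg Subtype.val hpp) i
    have hA : p.1 = p'.1 := by
      refine Subtype.ext (funext fun i => ?_)
      refine (linearIndependent_image hS hx.2).fintypeLinearCombination_injective ?_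
      have := congrArg T (h1 i)
      simpa [map_sum, p.2.2.2, p'.2.2.2, Fintype.linearCombination_apply] using this
    refine Prod.ext hA (Subtype.ext (funext fun i => ?_))
    have hu := det_ne_zero_of_gramPres hS p.1.2
    rw [← sum_one (F := F) (p.2 : ι → V) i, ← sum_one (F := F) (p'.2 : ι → V) i,
      ← Matrix.nonsing_inv_mul _ hu, ← sum_mix, ← sum_mix]
    exact Finset.sum_congr rfl fun l _ => by rw [h1, hA]
  · have hspan := span_image_eq_range hS hx.2 hs
    have hmem : ∀ i, ∃ c : ι → F, ∑ l, c l • T (x l) = T ((y : ι → V) i) := fun i => by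
      have : T ((y : ι → V) i) ∈ Submodule.span F (Set.range fun l => T (x l)) :=
        hspan ▸ LinearMap.mem_range_self T _
      exact (Submodule.mem_span_range_iff_exists_fun F).1 this
    choose A hA using hmem
    have hTy : ∀ i, T ((y : ι → V) i) = T (∑ l, (Matrix.of A) i l • x l) := fun i => by
      simp [map_sum, hA]
    have hAS : Matrix.of A ∈ gramPres σ S := by
      refine Matrix.ext fun i j => ?_
      have h2 := gram_mix (B := B) x T (Matrix.of A) (Matrix.of A) i j
      rw [show (Matrix.of fun l k => B (x l) (T (x k))) = S from Matrix.ext hx.2, ← hTy, ← h.adj,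
        ← hTy, h.adj, y.2.2] at h2
      exact h2.symm
    have hu := det_ne_zero_of_gramPres hS hAS
    refine ⟨(⟨_, hAS⟩, ⟨fun i => ∑ l, (Matrix.of A)⁻¹ i l • (y : ι → V) l, fun i j => ?_, fun i => ?_⟩),
      Subtype.ext (funext fun i => ?_)⟩
    · rw [gram_mix', show (Matrix.of fun l k => B ((y : ι → V) l) ((y : ι → V) k)) = 0 from
        Matrix.ext fun l k => y.2.1 l k]
      simp
    · rw [map_sum]
      simp only [map_smul, hTy]
      simp only [← map_smul, ← map_sum]
      rw [sum_mix, Matrix.nonsing_inv_mul _ hu, sum_one]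
    · show ∑ l, (Matrix.of A) i l • ∑ k, (Matrix.of A)⁻¹ l k • (y : ι → V) k = _
      rw [sum_mix, Matrix.mul_nonsing_inv _ hu, sum_one]

/-- The matrices with `N i j + σ (N j i) = a i j`. -/
def halves (σ : F →+* F) (a : Matrix ι ι F) : Set (Matrix ι ι F) :=
  {N | ∀ i j, N i j + σ (N j i) = a i j}

omit [FiniteDimensional F V] [Fintype ι] [DecidableEq ι] in
theorem card_halves (a N₀ : Matrix ι ι F) (hN : N₀ ∈ halves σ a) :
    Nat.card (halves σ a) = Nat.card (halves σ (0 : Matrix ι ι F)) := by
  refine Nat.card_congr ((Equiv.subRight N₀).subtypeEquiv fun N => ?_)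
  show (∀ i j, N i j + σ (N j i) = a i j) ↔ ∀ i j, (N - N₀) i j + σ ((N - N₀) j i) = (0 : Matrix ι ι F) i j
  refine forall_congr' fun i => forall_congr' fun j => ?_
  simp only [Matrix.sub_apply, map_sub, Matrix.zero_apply, ← hN i j]
  constructor <;> intro e <;> linear_combination e

include h hS hx hs in
/-- The number of lifts. -/
theorem card_lifts [CharP F 2] [Finite F] (hσ : ∀ c, σ (σ c) = c)
    (htr : ∀ v, ∃ c, c + σ c = B v v) :
    Nat.card (Lifts B T x) =
      Nat.card F ^ (Fintype.card ι * Module.finrank F (framePerp B T x)) *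
        Nat.card (halves σ (0 : Matrix ι ι F)) := by
  have : Finite V := Module.finite_of_finite F
  have : Finite (Matrix ι ι F) := Finite.of_equiv (ι → ι → F) Matrix.of
  have := Fintype.ofFinite (ι → framePerp B T x)
  set gr : (ι → framePerp B T x) → Matrix ι ι F := fun u =>
    Matrix.of fun i j => B (u i : V) (u j) with hgr
  have hfib : ∀ u, Nat.card (halves σ (gr u)) = Nat.card (halves σ (0 : Matrix ι ι F)) := fun u => by
    obtain ⟨N, hN⟩ := exists_half hσ (gr u) (fun i j => h.symm _ _) (fun i => htr _)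
    exact card_halves _ N hN
  have key : ∀ (u : ι → framePerp B T x) (M : Matrix ι ι F) (i j : ι),
      B (x i + shift T x M i + u i) (x j + shift T x M j + u j) =
        (S * Mᵀ) i j + σ ((S * Mᵀ) j i) + gr u i j := by
    intro u M i j
    have e1 : ∀ a b, B (x a) (u b : V) = 0 := fun a b => (mem_framePerp.1 (u b).2).2 a
    have e2 : ∀ a b, B (shift T x M a) (u b : V) = 0 := fun a b => by
      simp [shift, map_sum, LinearMap.sum_apply, (mem_framePerp.1 (u b).2).1]
    have e3 : ∀ a b, B (u b : V) (x a) = 0 := fun a b => by rw [← h.symm, e1, map_zero]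
    have e4 : ∀ a b, B (u b : V) (shift T x M a) = 0 := fun a b => by rw [← h.symm, e2, map_zero]
    have e5 : B (shift T x M i) (x j) = σ ((S * Mᵀ) j i) := by
      rw [← h.symm, apply_shift hx.2]
    simp only [map_add, LinearMap.add_apply, hx.1, e1, e2, e3, e4, e5, shift_shift h,
      apply_shift hx.2, hgr, Matrix.of_apply]
    ring
  have hinv : ∀ N : Matrix ι ι F, S * ((S⁻¹ * N)ᵀ)ᵀ = N := fun N => by
    rw [Matrix.transpose_transpose, Matrix.mul_nonsing_inv_cancel_left _ _ hS]
  let f : (Σ u : ι → framePerp B T x, halves σ (gr u)) → Lifts B T x := fun p =>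
    ⟨fun i => x i + shift T x (S⁻¹ * (p.2 : Matrix ι ι F))ᵀ i + p.1 i,
      fun i j => by rw [key, hinv, p.2.2 i j]; exact CharTwo.add_self_eq_zero _,
      fun i => by
        simp [map_shift h, LinearMap.mem_ker.1 (framePerp_le_ker h hx hS hs (p.1 i).2)]⟩
  have hf : Function.Bijective f := by
    constructor
    · rintro ⟨u, N⟩ ⟨u', N'⟩ hpp
      have h1 : ∀ i, x i + shift T x (S⁻¹ * (N : Matrix ι ι F))ᵀ i + u i =
          x i + shift T x (S⁻¹ * (N' : Matrix ι ι F))ᵀ i + u' i :=
        fun i => congrFun (congrArg Subtype.val hpp) i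
      have hcoef : ∀ (M : Matrix ι ι F) (w : framePerp B T x) i,
          coef B T S x (x i + shift T x M i + w) = (Pi.single i 1, M i) := by
        intro M w i
        rw [map_add, coef_eq_zero hS w.2, add_zero,
          show x i + shift T x M i = comb T x (Pi.single i 1, M i) by
            simp [comb_apply, shift, Pi.single_apply, ite_smul],
          coef_comb h hx hS]
      have hM : (S⁻¹ * (N : Matrix ι ι F))ᵀ = (S⁻¹ * (N' : Matrix ι ι F))ᵀ := funext fun i => by
        have := congrArg (coef B T S x) (h1 i)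
        rw [hcoef, hcoef] at this
        exact congrArg Prod.snd this
      have hu : u = u' := funext fun i => Subtype.ext (by
        have := h1 i
        rwa [hM, add_right_inj] at this)
      subst hu
      refine Sigma.ext rfl (heq_of_eq (Subtype.ext ?_))
      rw [← hinv N, ← hinv N', hM]
    · rintro ⟨y, hy1, hy2⟩
      have hd : ∀ i, ∃ (c : ι → F) (u : framePerp B T x), y i = x i + (∑ l, c l • T (x l)) + u := by
        intro i
        refine ⟨(coef B T S x (y i - x i)).2, ⟨_, sub_comb_mem h hx hS (y i - x i)⟩, ?_⟩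
        have h0 : (coef B T S x (y i - x i)).1 = 0 := by
          have := coef_map h hx hS hs (y i - x i)
          rw [map_sub, hy2, sub_self, map_zero] at this
          exact ((Prod.ext_iff.1 this).2).symm
        have hc : comb T x (coef B T S x (y i - x i)) = ∑ l, (coef B T S x (y i - x i)).2 l • T (x l) := by
          rw [comb_apply, h0]
          simp
        show y i = x i + _ + (y i - x i - comb T x (coef B T S x (y i - x i)))
        rw [hc]
        abel
      choose c u hcu using hd
      have hN : S * (Matrix.of c)ᵀ ∈ halves σ (gr u) := fun i j => by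
        have e := key u (Matrix.of c) i j
        simp only [shift, Matrix.of_apply, ← hcu, hy1] at e
        exact CharTwo.add_eq_zero.1 e.symm
      refine ⟨⟨u, ⟨_, hN⟩⟩, Subtype.ext (funext fun i => ?_)⟩
      show x i + shift T x (S⁻¹ * (S * (Matrix.of c)ᵀ))ᵀ i + u i = y i
      rw [Matrix.nonsing_inv_mul_cancel_left _ _ hS, Matrix.transpose_transpose, hcu]
      rfl
  rw [← Nat.card_congr (Equiv.ofBijective f hf), Nat.card_sigma, Finset.sum_congr rfl fun u _ => hfib u,
    Finset.sum_const, Finset.card_univ, smul_eq_mul, ← Nat.card_eq_fintype_card,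
    Nat.card_fun, Module.natCard_eq_pow_finrank (K := F) (V := framePerp B T x), ← pow_mul,
    mul_comm (Module.finrank F _), Nat.card_eq_fintype_card (α := ι)]

omit [DecidableEq ι] in
/-- For a bilinear form the matrices with `N + Nᵀ = 0` are the symmetric ones. -/
theorem card_halves_symm [CharP F 2] :
    Nat.card (halves (RingHom.id F) (0 : Matrix ι ι F)) =
      Nat.card F ^ (Fintype.card ι + 1).choose 2 := by
  classical
  have e : halves (RingHom.id F) (0 : Matrix ι ι F) ≃ {f : ι → ι → F // ∀ a b, f a b = f b a} :=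
    (Matrix.of.symm).subtypeEquiv fun N => by
      refine forall_congr' fun i => forall_congr' fun j => ?_
      show N i j + N j i = 0 ↔ _
      exact CharTwo.add_eq_zero
  rw [Nat.card_congr (e.trans Sym2.lift), Nat.card_fun, Nat.card_eq_fintype_card (α := Sym2 ι), Sym2.card]

end CfsgLib.Classical.CharTwo
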