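import Cfsg.Agent.Lib.Classical.CharTwo.FrameCount

/-!
# Involutive isometries give square-zero self-adjoint maps
-/

set_option autoImplicit false

namespace CfsgLib.Classical.CharTwo

open scoped Matrix

variable {F : Type*} [Field F] {V : Type*} [AddCommGroup V] [Module F V] {σ : F →+* F}
  {B : V →ₛₗ[σ] V →ₗ[F] F} {T T' : V →ₗ[F] V}

theorem add_self_vec [CharP F 2] (x : V) : x + x = 0 := by
  rw [← two_smul F x, CharTwo.two_eq_zero, zero_smul]

theorem sqZero_of_invol [CharP F 2] (hsymm : ∀ u v, σ (B u v) = B v u)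
    (hnd : ∀ u, (∀ v, B u v = 0) → u = 0) (t : V → V) (hT : ∀ v, t v = v + T v)
    (hiso : ∀ u v, B (t u) (t v) = B u v) (ht : ∀ v, t (t v) = v) : SqZero B T := by
  have hsq : ∀ v, T (T v) = 0 := fun v => by
    have h := ht v
    rw [hT, hT, map_add, add_assoc, add_eq_left, ← add_assoc, add_self_vec (F := F), zero_add] at h
    exact h
  have key : ∀ u v, B u (T v) + B (T u) v + B (T u) (T v) = 0 := fun u v => by
    have h := hiso u v
    rw [hT, hT, map_add, map_add, LinearMap.add_apply, LinearMap.add_apply] at h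
    linear_combination h
  have hr : ∀ u v, B (T u) (T v) = 0 := fun u v => by
    have h := key u (T v)
    rwa [hsq, map_zero, map_zero, zero_add, add_zero] at h
  refine ⟨hsymm, hnd, hsq, fun u v => ?_⟩
  have h := key u v
  rw [hr, add_zero] at h
  exact (CharTwo.add_eq_zero.1 h).symm

theorem commute_iff_commute (g : V ≃ₗ[F] V) {t : V → V} (hT : ∀ v, t v = v + T v)
    {t' : V → V} (hT' : ∀ v, t' v = v + T' v) :
    (∀ v, g (t v) = t' (g v)) ↔ ∀ v, g (T v) = T' (g v) := by
  refine forall_congr' fun v => ?_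
  rw [hT, hT', map_add, add_right_inj]

/-- The kernel of `T` is the perpendicular space of its image. -/
theorem exists_gram_family [FiniteDimensional F V] (h : SqZero B T) :
    ∃ C : Submodule F V, Module.finrank F C = Module.finrank F (LinearMap.range T) ∧
      (∀ u ∈ C, (∀ v ∈ C, B u (T v) = 0) → u = 0) ∧
      ∀ v, ∃ c ∈ C, T c = T v := by
  obtain ⟨C, hC⟩ := (LinearMap.ker T).exists_isCompl
  have hdec : ∀ v, ∃ c ∈ C, T c = T v := fun v => by
    obtain ⟨k, c, hk, hc, rfl⟩ := Submodule.codisjoint_iff_exists_add_eq.1 hC.codisjoint v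
    exact ⟨c, hc, by rw [map_add, LinearMap.mem_ker.1 hk, zero_add]⟩
  refine ⟨C, ?_, fun u hu h0 => ?_, hdec⟩
  · have h1 := Submodule.finrank_add_eq_of_isCompl hC
    have h2 := T.finrank_range_add_finrank_ker
    omega
  · refine Submodule.disjoint_def.1 hC.disjoint u (LinearMap.mem_ker.2 (h.nondeg _ fun v => ?_)) hu
    obtain ⟨c, hc, hcv⟩ := hdec v
    rw [h.adj, ← hcv, h0 c hc]

variable {ι : Type*} [Fintype ι] [DecidableEq ι] {S : Matrix ι ι F} {x : ι → V}

theorem apply_self_of_isFrame [FiniteDimensional F V] (h : SqZero B T) (hx : IsFrame B T S x)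
    (hS : IsUnit S.det) (hs : Module.finrank F (LinearMap.range T) = Fintype.card ι) (v : V) :
    B v (T v) = ∑ i, σ ((coef B T S x v).1 i) * (S *ᵥ (coef B T S x v).1) i := by
  set u := v - comb T x (coef B T S x v) with hu
  have hmem := sub_comb_mem h hx hS v
  have hTu : T u = 0 := LinearMap.mem_ker.1 (framePerp_le_ker h hx hS hs hmem)
  have hTv : T v = comb T x (0, (coef B T S x v).1) := by
    rw [← coef_map h hx hS hs v]
    exact sub_eq_zero.1 (map_rest h hx hS hs v)
  have hv : v = comb T x (coef B T S x v) + u := by rw [hu, add_sub_cancel]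
  nth_rewrite 1 [hv]
  rw [map_add, LinearMap.add_apply, ← h.adj u, hTu, map_zero, LinearMap.zero_apply, add_zero, hTv,
    comb_pairing, pairing_comb h hx]
  simp

end CfsgLib.Classical.CharTwo
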