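import Cfsg.Agent.Lib.Known.OmegaCriterion

/-!
# In characteristic two, membership in `Ω` is parity of `rank (g - 1)`
-/

set_option autoImplicit false

namespace CfsgLib.Classical.CharTwo

open QuadraticMap (polar polarBilin)
open CfsgLib.Classical.Quad CfsgLib.Known.OmegaCriterion

variable {F : Type*} [Field F] {ι : Type} [Fintype ι] [DecidableEq ι] {Q : QuadraticForm F (ι → F)}

theorem finrank_mov_oEquiv (g : ↥(Cfsg.isometryGroup F ⇑Q)) :
    Module.finrank F (mov (oEquiv Q g)) =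
      (((g : Matrix.GeneralLinearGroup ι F) : Matrix ι ι F) - 1).rank := by
  have e : movMap (oEquiv Q g) =
      -(Matrix.mulVecLin (((g : Matrix.GeneralLinearGroup ι F) : Matrix ι ι F) - 1)) := by
    refine LinearMap.ext fun z => ?_
    rw [movMap_apply, oEquiv_apply, LinearMap.neg_apply, Matrix.mulVecLin_apply, Matrix.sub_mulVec,
      Matrix.one_mulVec, neg_sub]
  rw [mov, e, LinearMap.range_neg]
  rfl

theorem mem_Omega_iff_rank_even [Finite F] (h2 : (2 : F) = 0) (hQ : (polarBilin Q).Nondegenerate)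
    (hex : (∃ c : F, c ≠ 0 ∧ c ≠ 1) ∨ Fintype.card ι ≠ 4) (g : ↥(Cfsg.isometryGroup F ⇑Q)) :
    g ∈ Cfsg.Omega F ⇑Q ↔ Even (((g : Matrix.GeneralLinearGroup ι F) : Matrix ι ι F) - 1).rank := by
  rw [mem_Omega_iff hQ hex, ← finrank_mov_oEquiv, par, ZMod.natCast_eq_zero_iff_even]
  exact and_iff_left (spinor_of_two_eq_zero h2 _)

end CfsgLib.Classical.CharTwo
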