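import Cfsg.Agent.Lib.Classical.CharTwo.SpInvolution

/-!
# Involutions of the matrix symplectic group in characteristic two
-/

set_option autoImplicit false
set_option maxHeartbeats 800000

namespace CfsgLib.Classical.CharTwo

open scoped Matrix
open CfsgLib.Classical.Symp

variable {F : Type*} [Field F] {m : ℕ}

/-- The map `a - 1`. -/
noncomputable def tmap (a : Matrix.symplecticGroup (Fin m) F) :
    (Fin m ⊕ Fin m → F) →ₗ[F] (Fin m ⊕ Fin m → F) :=
  Matrix.mulVecLin ((a : Matrix (Fin m ⊕ Fin m) (Fin m ⊕ Fin m) F) - 1)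

theorem tmap_spec (a : Matrix.symplecticGroup (Fin m) F) (v : Fin m ⊕ Fin m → F) :
    (symplecticEquiv m F a : (Fin m ⊕ Fin m → F) ≃ₗ[F] (Fin m ⊕ Fin m → F)) v = v + tmap a v := by
  rw [symplecticEquiv_apply, tmap, Matrix.mulVecLin_apply, Matrix.sub_mulVec, Matrix.one_mulVec,
    add_sub_cancel]

theorem finrank_range_tmap (a : Matrix.symplecticGroup (Fin m) F) :
    Module.finrank F (LinearMap.range (tmap a)) =
      ((a : Matrix (Fin m ⊕ Fin m) (Fin m ⊕ Fin m) F) - 1).rank := rfl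

theorem separating_sympBil (u : Fin m ⊕ Fin m → F) (h : ∀ v, sympBil m F u v = 0) : u = 0 :=
  (sympBil_nondegenerate m F).1 u h

theorem sympBil_tmap (a : Matrix.symplecticGroup (Fin m) F) (v : Fin m ⊕ Fin m → F) :
    sympBil m F v (tmap a v) =
      Cfsg.sympForm m F v ((a : Matrix (Fin m ⊕ Fin m) (Fin m ⊕ Fin m) F) *ᵥ v) := by
  have h := tmap_spec a v
  rw [symplecticEquiv_apply] at h
  rw [← sympBil_apply, h, map_add (sympBil m F v), sympBil_isAlt m F v, zero_add]

theorem symplecticEquiv_map_form (a : Matrix.symplecticGroup (Fin m) F) (u v : Fin m ⊕ Fin m → F) :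
    sympBil m F ((symplecticEquiv m F a : (Fin m ⊕ Fin m → F) ≃ₗ[F] _) u)
      ((symplecticEquiv m F a : (Fin m ⊕ Fin m → F) ≃ₗ[F] _) v) = sympBil m F u v :=
  (symplecticEquiv m F a).2 u v

theorem tmap_conj (a b c : Matrix.symplecticGroup (Fin m) F) :
    c * a * c⁻¹ = b ↔ ∀ v,
      (symplecticEquiv m F c : (Fin m ⊕ Fin m → F) ≃ₗ[F] _) (tmap a v) =
        tmap b ((symplecticEquiv m F c : (Fin m ⊕ Fin m → F) ≃ₗ[F] _) v) := by
  rw [mul_inv_eq_iff_eq_mul, ← commute_iff_commute _ (tmap_spec a) (tmap_spec b),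
    ← (symplecticEquiv m F).injective.eq_iff, map_mul, map_mul, Subtype.ext_iff, LinearEquiv.ext_iff]
  rfl

theorem card_centralizer (a : Matrix.symplecticGroup (Fin m) F) :
    Nat.card (Subgroup.centralizer ({a} : Set (Matrix.symplecticGroup (Fin m) F))) =
      Nat.card (centr (sympBil m F) (tmap a)) := by
  refine Nat.card_congr ((symplecticEquiv m F).toEquiv.subtypeEquiv fun c => ?_)
  rw [Subgroup.mem_centralizer_singleton_iff, mem_centr, ← mul_inv_eq_iff_eq_mul, tmap_conj]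
  rfl

variable [CharP F 2]

theorem sqZero_tmap {a : Matrix.symplecticGroup (Fin m) F} (ha : a ^ 2 = 1) :
    SqZero (sympBil m F) (tmap a) := by
  refine sqZero_of_invol (σ := RingHom.id F) (B := sympBil m F) (T := tmap a) ?_ separating_sympBil
    (fun v => v + tmap a v) (fun v => rfl) ?_ ?_
  · intro u v
    rw [RingHom.id_apply, Symp.swap (sympBil_isAlt m F) v u, CharTwo.neg_eq]
  · intro u v
    rw [← tmap_spec, ← tmap_spec]
    exact symplecticEquiv_map_form a u v
  · intro v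
    show v + tmap a v + tmap a (v + tmap a v) = v
    rw [← tmap_spec, ← tmap_spec, symplecticEquiv_apply, symplecticEquiv_apply, Matrix.mulVec_mulVec]
    have h1 : (a : Matrix (Fin m ⊕ Fin m) (Fin m ⊕ Fin m) F) * a = 1 := by
      rw [← Submonoid.coe_mul, ← pow_two, ha]
      rfl
    rw [h1, Matrix.one_mulVec]


theorem isTypeA_iff (a : Matrix.symplecticGroup (Fin m) F) :
    IsTypeA (sympBil m F) (tmap a) ↔ ∀ v : Fin m ⊕ Fin m → F,
      Cfsg.sympForm m F v ((a : Matrix (Fin m ⊕ Fin m) (Fin m ⊕ Fin m) F) *ᵥ v) = 0 :=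
  forall_congr' fun v => by rw [sympBil_tmap]

theorem isConj_iff_rank_type [Finite F] {a b : Matrix.symplecticGroup (Fin m) F} (ha : a ^ 2 = 1)
    (hb : b ^ 2 = 1) :
    IsConj a b ↔ ((a : Matrix (Fin m ⊕ Fin m) (Fin m ⊕ Fin m) F) - 1).rank =
        ((b : Matrix (Fin m ⊕ Fin m) (Fin m ⊕ Fin m) F) - 1).rank ∧
      (IsTypeA (sympBil m F) (tmap a) ↔ IsTypeA (sympBil m F) (tmap b)) := by
  rw [isConj_iff, ← finrank_range_tmap, ← finrank_range_tmap,
    ← exists_conj_iff (sympBil_isAlt m F) (sqZero_tmap ha) (sqZero_tmap hb)]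
  constructor
  · rintro ⟨c, hc⟩
    exact ⟨symplecticEquiv m F c, (tmap_conj a b c).1 hc⟩
  · rintro ⟨g, hg⟩
    obtain ⟨c, rfl⟩ := (symplecticEquiv m F).surjective g
    exact ⟨c, (tmap_conj a b c).2 hg⟩

theorem rank_even_of_isTypeA {a : Matrix.symplecticGroup (Fin m) F} (ha : a ^ 2 = 1)
    (h : IsTypeA (sympBil m F) (tmap a)) :
    Even ((a : Matrix (Fin m ⊕ Fin m) (Fin m ⊕ Fin m) F) - 1).rank := by
  obtain ⟨k, x, -, hk⟩ := exists_frame_typeA (sympBil_isAlt m F) (sqZero_tmap ha) h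
  exact ⟨k, by rw [← finrank_range_tmap, hk, two_mul]⟩

theorem isConj_iff_rank_card [Finite F] {a b : Matrix.symplecticGroup (Fin m) F} (ha : a ^ 2 = 1)
    (hb : b ^ 2 = 1) :
    IsConj a b ↔ ((a : Matrix (Fin m ⊕ Fin m) (Fin m ⊕ Fin m) F) - 1).rank =
        ((b : Matrix (Fin m ⊕ Fin m) (Fin m ⊕ Fin m) F) - 1).rank ∧
      (Even ((a : Matrix (Fin m ⊕ Fin m) (Fin m ⊕ Fin m) F) - 1).rank →
        Nat.card {v : Fin m ⊕ Fin m → F //
            Cfsg.sympForm m F v ((a : Matrix (Fin m ⊕ Fin m) (Fin m ⊕ Fin m) F) *ᵥ v) = 0} =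
          Nat.card {v : Fin m ⊕ Fin m → F //
            Cfsg.sympForm m F v ((b : Matrix (Fin m ⊕ Fin m) (Fin m ⊕ Fin m) F) *ᵥ v) = 0}) := by
  constructor
  · intro h
    refine ⟨((isConj_iff_rank_type ha hb).1 h).1, fun _ => ?_⟩
    obtain ⟨c, hc⟩ := isConj_iff.1 h
    have key : ∀ v, Cfsg.sympForm m F v ((a : Matrix (Fin m ⊕ Fin m) (Fin m ⊕ Fin m) F) *ᵥ v) =
        Cfsg.sympForm m F ((c : Matrix (Fin m ⊕ Fin m) (Fin m ⊕ Fin m) F) *ᵥ v)
          ((b : Matrix (Fin m ⊕ Fin m) (Fin m ⊕ Fin m) F) *ᵥ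
            ((c : Matrix (Fin m ⊕ Fin m) (Fin m ⊕ Fin m) F) *ᵥ v)) := by
      intro v
      have hm : (b : Matrix (Fin m ⊕ Fin m) (Fin m ⊕ Fin m) F) * c =
          (c : Matrix (Fin m ⊕ Fin m) (Fin m ⊕ Fin m) F) * a := by
        rw [← Submonoid.coe_mul, ← Submonoid.coe_mul, ← hc, inv_mul_cancel_right]
      rw [Matrix.mulVec_mulVec, hm, ← Matrix.mulVec_mulVec,
        mem_symplecticGroup_iff_form.1 c.2]
    exact Nat.card_congr (((symplecticEquiv m F c).1).toEquiv.subtypeEquiv fun v => by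
      rw [key v]
      rfl)
  · rintro ⟨hr, hcard⟩
    refine (isConj_iff_rank_type ha hb).2 ⟨hr, ?_⟩
    have hfull : ∀ (a : Matrix.symplecticGroup (Fin m) F), IsTypeA (sympBil m F) (tmap a) ↔
        Nat.card {v : Fin m ⊕ Fin m → F //
            Cfsg.sympForm m F v ((a : Matrix (Fin m ⊕ Fin m) (Fin m ⊕ Fin m) F) *ᵥ v) = 0} =
          Nat.card (Fin m ⊕ Fin m → F) := by
      intro a
      rw [isTypeA_iff]
      refine ⟨fun h => Nat.card_congr (Equiv.subtypeUnivEquiv h), fun h v => ?_⟩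
      have hs := (Nat.bijective_iff_injective_and_card
        (Subtype.val : {v : Fin m ⊕ Fin m → F //
          Cfsg.sympForm m F v ((a : Matrix (Fin m ⊕ Fin m) (Fin m ⊕ Fin m) F) *ᵥ v) = 0} → _)).2
        ⟨Subtype.val_injective, h⟩ |>.2
      obtain ⟨w, rfl⟩ := hs v
      exact w.2
    constructor <;> intro h
    · rw [hfull, ← hcard (rank_even_of_isTypeA ha h)]
      exact (hfull a).1 h
    · rw [hfull, hcard (hr ▸ rank_even_of_isTypeA hb h)]
      exact (hfull b).1 h

theorem sq_eq_one_of_rank_one {a : Matrix.symplecticGroup (Fin m) F}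
    (hr : ((a : Matrix (Fin m ⊕ Fin m) (Fin m ⊕ Fin m) F) - 1).rank = 1) : a ^ 2 = 1 := by
  have hA := sympBil_isAlt m F
  have hsq : ∀ u, tmap a (tmap a u) = 0 := by
    intro u
    by_cases hw : tmap a u = 0
    · rw [hw, map_zero]
    set w := tmap a u
    have hpar : ∀ v, ∃ c : F, c • w = tmap a v := fun v => by
      obtain ⟨c, hc⟩ := exists_smul_eq_of_finrank_eq_one ((finrank_range_tmap a).trans hr)
        (x := (⟨w, LinearMap.mem_range_self _ u⟩ : LinearMap.range (tmap a)))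
        (fun h => hw (congrArg Subtype.val h)) ⟨tmap a v, LinearMap.mem_range_self _ v⟩
      exact ⟨c, congrArg Subtype.val hc⟩
    obtain ⟨c, hc⟩ := hpar w
    by_contra hne
    have hc0 : c ≠ 0 := fun h => hne (by rw [← hc, h, zero_smul])
    refine hw (separating_sympBil _ fun v => ?_)
    obtain ⟨d, hd⟩ := hpar v
    have h := symplecticEquiv_map_form a w v
    rw [tmap_spec, tmap_spec, ← hc, ← hd] at h
    simp only [map_add, map_smul, LinearMap.add_apply, LinearMap.smul_apply, smul_eq_mul,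
      hA w, mul_zero, add_zero] at h
    exact (mul_eq_zero.1 (by linear_combination h : c * sympBil m F w v = 0)).resolve_left hc0
  refine (symplecticEquiv m F).injective (Subtype.ext (LinearEquiv.ext fun v => ?_))
  rw [pow_two, map_mul, map_one]
  show (symplecticEquiv m F a : (Fin m ⊕ Fin m → F) ≃ₗ[F] _)
    ((symplecticEquiv m F a : (Fin m ⊕ Fin m → F) ≃ₗ[F] _) v) = v
  rw [tmap_spec, tmap_spec, map_add, hsq, add_zero, add_assoc, add_self_vec (F := F), add_zero]

section Count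

variable [Fintype F]

theorem choose_succ_two (s : ℕ) : 2 * (s + 1).choose 2 = s * s + s := by
  rw [Nat.choose_two_right, Nat.add_sub_cancel,
    Nat.mul_div_cancel' (by rw [mul_comm]; exact (Nat.even_mul_succ_self s).two_dvd)]
  ring

theorem exp_b (s d : ℕ) :
    s * (2 * d) + (s + 1).choose 2 = 2 * (s + d) * s - (3 * s ^ 2 - s) / 2 := by
  have h := choose_succ_two s
  have h1 : 2 * (s + d) * s = 2 * (s * s) + 2 * (s * d) := by ring
  have h2 : s * (2 * d) = 2 * (s * d) := by ring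
  have h3 : 3 * s ^ 2 = 3 * (s * s) := by ring
  have h4 : s ≤ s * s := Nat.le_mul_self s
  rw [h1, h2, h3]
  generalize s * s = u at *
  omega

theorem exp_c (s d : ℕ) (hs : 1 ≤ s) :
    s * (2 * d) + (s + 1).choose 2 + (s - 1) = 2 * (s + d) * s - (3 * s ^ 2 - 3 * s) / 2 - 1 := by
  have h := choose_succ_two s
  have h1 : 2 * (s + d) * s = 2 * (s * s) + 2 * (s * d) := by ring
  have h2 : s * (2 * d) = 2 * (s * d) := by ring
  have h3 : 3 * s ^ 2 = 3 * (s * s) := by ring
  have h4 : s ≤ s * s := Nat.le_mul_self s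
  rw [h1, h2, h3]
  generalize s * s = u at *
  omega

theorem card_centralizer_odd {a : Matrix.symplecticGroup (Fin m) F} (ha : a ^ 2 = 1) {s k : ℕ}
    (hs : ((a : Matrix (Fin m ⊕ Fin m) (Fin m ⊕ Fin m) F) - 1).rank = s) (hk : s = 2 * k + 1) :
    Nat.card (Subgroup.centralizer ({a} : Set (Matrix.symplecticGroup (Fin m) F))) =
      Fintype.card F ^ (2 * m * s - (3 * s ^ 2 - s) / 2) *
        (Fintype.card F ^ (k ^ 2) * ∏ i ∈ Finset.range k, (Fintype.card F ^ (2 * (i + 1)) - 1)) *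
        (Fintype.card F ^ ((m - s) ^ 2) *
          ∏ i ∈ Finset.range (m - s), (Fintype.card F ^ (2 * (i + 1)) - 1)) := by
  have h := sqZero_tmap ha
  have hA := sympBil_isAlt m F
  have hna : ¬ IsTypeA (sympBil m F) (tmap a) := fun h0 => by
    have := rank_even_of_isTypeA ha h0
    rw [hs, hk, Nat.even_iff] at this
    omega
  obtain ⟨x, hx⟩ := exists_frame_not_typeA hA h hna ((finrank_range_tmap a).trans hs)
  obtain ⟨d, rfl⟩ : ∃ d, m = s + d := Nat.exists_eq_add_of_le
    (by rw [← hs, ← finrank_range_tmap]; exact finrank_range_le (finrank_sympSpace _ F) h)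
  rw [card_centralizer, card_centr_of_frame hA h hx (by rw [Matrix.det_one]; exact isUnit_one)
    (by rw [finrank_range_tmap, hs, Fintype.card_fin]) (finrank_sympSpace _ F),
    card_gramPres_one_odd hk, Nat.card_eq_fintype_card, Fintype.card_fin, Nat.add_sub_cancel_left,
    exp_b]

theorem card_centralizer_typeA {a : Matrix.symplecticGroup (Fin m) F} (ha : a ^ 2 = 1) {s k : ℕ}
    (hs : ((a : Matrix (Fin m ⊕ Fin m) (Fin m ⊕ Fin m) F) - 1).rank = s) (hk : s = 2 * k)
    (halt : IsTypeA (sympBil m F) (tmap a)) :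
    Nat.card (Subgroup.centralizer ({a} : Set (Matrix.symplecticGroup (Fin m) F))) =
      Fintype.card F ^ (2 * m * s - (3 * s ^ 2 - s) / 2) *
        (Fintype.card F ^ (k ^ 2) * ∏ i ∈ Finset.range k, (Fintype.card F ^ (2 * (i + 1)) - 1)) *
        (Fintype.card F ^ ((m - s) ^ 2) *
          ∏ i ∈ Finset.range (m - s), (Fintype.card F ^ (2 * (i + 1)) - 1)) := by
  have h := sqZero_tmap ha
  have hA := sympBil_isAlt m F
  obtain ⟨k', x, hx, hk'⟩ := exists_frame_typeA hA h halt
  obtain rfl : k' = k := by rw [finrank_range_tmap, hs] at hk'; omega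
  obtain ⟨d, rfl⟩ : ∃ d, m = s + d := Nat.exists_eq_add_of_le
    (by rw [← hs, ← finrank_range_tmap]; exact finrank_range_le (finrank_sympSpace _ F) h)
  have hc : Fintype.card (Fin k' ⊕ Fin k') = s := by simp [hk, two_mul]
  rw [card_centralizer, card_centr_of_frame hA h hx (Matrix.isUnit_det_J (Fin k') F)
    (by rw [finrank_range_tmap, hs, hc]) (finrank_sympSpace _ F), card_gramPres_J,
    card_symplecticGroup, Nat.card_eq_fintype_card, hc, Nat.add_sub_cancel_left, exp_b]

theorem card_centralizer_even {a : Matrix.symplecticGroup (Fin m) F} (ha : a ^ 2 = 1) {s k : ℕ}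
    (hs : ((a : Matrix (Fin m ⊕ Fin m) (Fin m ⊕ Fin m) F) - 1).rank = s) (hk : s = 2 * (k + 1))
    (hna : ¬ IsTypeA (sympBil m F) (tmap a)) :
    Nat.card (Subgroup.centralizer ({a} : Set (Matrix.symplecticGroup (Fin m) F))) =
      Fintype.card F ^ (2 * m * s - (3 * s ^ 2 - 3 * s) / 2 - 1) *
        (Fintype.card F ^ (k ^ 2) * ∏ i ∈ Finset.range k, (Fintype.card F ^ (2 * (i + 1)) - 1)) *
        (Fintype.card F ^ ((m - s) ^ 2) *
          ∏ i ∈ Finset.range (m - s), (Fintype.card F ^ (2 * (i + 1)) - 1)) := by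
  have h := sqZero_tmap ha
  have hA := sympBil_isAlt m F
  obtain ⟨x, hx⟩ := exists_frame_not_typeA hA h hna ((finrank_range_tmap a).trans hs)
  obtain ⟨d, rfl⟩ : ∃ d, m = s + d := Nat.exists_eq_add_of_le
    (by rw [← hs, ← finrank_range_tmap]; exact finrank_range_le (finrank_sympSpace _ F) h)
  rw [card_centralizer, card_centr_of_frame hA h hx (by rw [Matrix.det_one]; exact isUnit_one)
    (by rw [finrank_range_tmap, hs, Fintype.card_fin]) (finrank_sympSpace _ F),
    card_gramPres_one_even hk, Nat.card_eq_fintype_card, Fintype.card_fin, Nat.add_sub_cancel_left,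
    ← exp_c s d (by omega), show 2 * k + 1 = s - 1 by omega, ← mul_assoc (_ ^ _) (_ ^ (s - 1)),
    ← pow_add]

end Count

/-! ### Representatives -/

/-- A pairing of the first `s` indices. -/
def halfPair (F : Type*) [Field F] (m s : ℕ) : Matrix (Fin m) (Fin m) F :=
  Matrix.of fun i j => if (j : ℕ) = i + 1 ∧ Even (i : ℕ) ∧ (j : ℕ) < s then 1 else 0

/-- The projection on the first `s` indices. -/
def firstDiag (F : Type*) [Field F] (m s : ℕ) : Matrix (Fin m) (Fin m) F :=
  Matrix.diagonal fun i => if (i : ℕ) < s then 1 else 0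

theorem rank_firstDiag {s : ℕ} (hs : s ≤ m) : (firstDiag F m s).rank = s := by
  classical
  rw [firstDiag, Matrix.rank_diagonal]
  simp only [ne_eq, ite_eq_right_iff, one_ne_zero, imp_false, not_not]
  rw [Fintype.card_fin_lt_of_le hs]

theorem mem_symplecticGroup_upper (M : Matrix (Fin m) (Fin m) F) (hM : Mᵀ = M) :
    Matrix.fromBlocks 1 M 0 1 ∈ Matrix.symplecticGroup (Fin m) F := by
  rw [SymplecticGroup.mem_iff]
  simp [Matrix.J, Matrix.fromBlocks_transpose, Matrix.fromBlocks_multiply, hM]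

theorem exists_upper_invol (M : Matrix (Fin m) (Fin m) F) (hM : Mᵀ = M) :
    ∃ a : Matrix.symplecticGroup (Fin m) F, a ^ 2 = 1 ∧
      ((a : Matrix (Fin m ⊕ Fin m) (Fin m ⊕ Fin m) F) - 1).rank = M.rank ∧
      (IsTypeA (sympBil m F) (tmap a) ↔ ∀ u, u ⬝ᵥ (M *ᵥ u) = 0) := by
  refine ⟨⟨_, mem_symplecticGroup_upper M hM⟩, Subtype.ext ?_, ?_, ?_⟩
  · rw [pow_two]
    show Matrix.fromBlocks 1 M 0 1 * Matrix.fromBlocks 1 M 0 1 = 1
    have : M + M = 0 := Matrix.ext fun i j => CharTwo.add_self_eq_zero (M i j)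
    simp [Matrix.fromBlocks_multiply, this, Matrix.fromBlocks_one]
  · show (Matrix.fromBlocks 1 M 0 1 - 1).rank = _
    have e : (Matrix.fromBlocks 1 M 0 1 - 1 : Matrix (Fin m ⊕ Fin m) (Fin m ⊕ Fin m) F) =
        Matrix.fromBlocks 0 M 0 0 := by
      ext (i | i) (j | j) <;> simp [Matrix.one_apply]
    rw [e]
    have e2 : (Matrix.fromBlocks 0 M 0 0 : Matrix (Fin m ⊕ Fin m) (Fin m ⊕ Fin m) F) =
        Matrix.fromRows (1 : Matrix (Fin m) (Fin m) F) (0 : Matrix (Fin m) (Fin m) F) *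
          (M * Matrix.fromCols (0 : Matrix (Fin m) (Fin m) F) (1 : Matrix (Fin m) (Fin m) F)) := by
      rw [Matrix.mul_fromCols, Matrix.mul_zero, Matrix.mul_one, Matrix.fromRows_mul, Matrix.one_mul,
        Matrix.zero_mul]
      ext (i | i) (j | j) <;> simp
    have e3 : M = Matrix.fromCols (1 : Matrix (Fin m) (Fin m) F) (0 : Matrix (Fin m) (Fin m) F) *
        ((Matrix.fromBlocks 0 M 0 0 : Matrix (Fin m ⊕ Fin m) (Fin m ⊕ Fin m) F) *
          Matrix.fromRows (0 : Matrix (Fin m) (Fin m) F) (1 : Matrix (Fin m) (Fin m) F)) := by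
      rw [Matrix.fromBlocks_mul_fromRows, Matrix.fromCols_mul_fromRows]
      simp
    refine le_antisymm ?_ ?_
    · rw [e2]
      exact (Matrix.rank_mul_le_right _ _).trans (Matrix.rank_mul_le_left _ _)
    · conv_lhs => rw [e3]
      exact (Matrix.rank_mul_le_right _ _).trans (Matrix.rank_mul_le_left _ _)
  · rw [isTypeA_iff]
    have key : ∀ v : Fin m ⊕ Fin m → F, Cfsg.sympForm m F v (Matrix.fromBlocks 1 M 0 1 *ᵥ v) =
        (v ∘ Sum.inr) ⬝ᵥ (M *ᵥ (v ∘ Sum.inr)) := by
      intro v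
      rw [sympForm_expand]
      simp only [Matrix.fromBlocks_mulVec, Sum.elim_inl, Sum.elim_inr, Matrix.zero_mulVec,
        Matrix.one_mulVec, zero_add, Pi.add_apply, Function.comp_apply, dotProduct]
      exact Finset.sum_congr rfl fun i _ => by ring
    refine ⟨fun h u => ?_, fun h v => (key v).trans (h _)⟩
    have := h (Sum.elim 0 u)
    rwa [key, Sum.elim_comp_inr] at this

/-- Representatives of the classes of involutions. -/
theorem exists_invol {s : ℕ} (hs : s ≤ m) (hs0 : 0 < s) (α : Prop) (hα : α → Even s) :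
    ∃ a : Matrix.symplecticGroup (Fin m) F, a ^ 2 = 1 ∧
      ((a : Matrix (Fin m ⊕ Fin m) (Fin m ⊕ Fin m) F) - 1).rank = s ∧
      (IsTypeA (sympBil m F) (tmap a) ↔ α) := by
  classical
  by_cases ha : α
  · set N := halfPair F m s with hN
    obtain ⟨k, hk⟩ := hα ha
    obtain ⟨a, h1, h2, h3⟩ := exists_upper_invol (N + Nᵀ) (by
      rw [Matrix.transpose_add, Matrix.transpose_transpose, add_comm])
    refine ⟨a, h1, h2.trans ?_, iff_of_true (h3.2 fun u => ?_) ha⟩
    · -- the partner of an index below `s`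
      let p : ℕ → ℕ := fun i => if Even i then i + 1 else i - 1
      have hp : ∀ i, i < s → p i < s ∧ p (p i) = i ∧ p i ≠ i := by
        intro i hi
        simp only [p, Nat.even_iff]
        split_ifs with h1 h2 <;> (constructor <;> [omega; constructor]) <;> omega
      have hM : ∀ i j : Fin m, (N + Nᵀ) i j = if (i : ℕ) < s ∧ (j : ℕ) = p i then 1 else 0 := by
        intro i j
        simp only [hN, halfPair, Matrix.add_apply, Matrix.transpose_apply, Matrix.of_apply, p,
          Nat.even_iff]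
        split_ifs with c1 c2 c3 c4 <;> first | omega | simp
      have hMM : (N + Nᵀ) * (N + Nᵀ) = firstDiag F m s := by
        ext i j
        rw [Matrix.mul_apply, firstDiag, Matrix.diagonal_apply]
        by_cases hi : (i : ℕ) < s
        · obtain ⟨h1, h2, -⟩ := hp i hi
          rw [Finset.sum_eq_single ⟨p i, h1.trans_le hs⟩]
          · rw [hM, hM]
            simp [hi, h1, h2, Fin.ext_iff, eq_comm]
          · intro l _ hl
            rw [hM, if_neg fun c => hl (Fin.ext c.2), zero_mul]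
          · simp
        · rw [Finset.sum_eq_zero fun l _ => by rw [hM, if_neg fun c => hi c.1, zero_mul]]
          simp [hi]
      have hMD : firstDiag F m s * (N + Nᵀ) = N + Nᵀ := by
        ext i j
        rw [firstDiag, Matrix.diagonal_mul, hM]
        by_cases hi : (i : ℕ) < s <;> simp [hi]
      refine le_antisymm ?_ ?_
      · rw [← hMD]
        exact (Matrix.rank_mul_le_left _ _).trans (rank_firstDiag hs).le
      · calc s = ((N + Nᵀ) * (N + Nᵀ)).rank := by rw [hMM, rank_firstDiag hs]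
          _ ≤ (N + Nᵀ).rank := Matrix.rank_mul_le_left _ _
    · rw [Matrix.add_mulVec, dotProduct_add, Matrix.mulVec_transpose, dotProduct_comm u (u ᵥ* N),
        ← Matrix.dotProduct_mulVec, CharTwo.add_self_eq_zero]
  · obtain ⟨a, h1, h2, h3⟩ := exists_upper_invol (firstDiag F m s) (Matrix.diagonal_transpose _)
    refine ⟨a, h1, h2.trans (rank_firstDiag hs), iff_of_false (fun h => ?_) ha⟩
    have := h3.1 h (Pi.single ⟨0, by omega⟩ 1)
    simp [firstDiag, hs0] at this

/-- The rank and type attached to an index of a class of involutions. -/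
def classData : Fin m ⊕ Fin (m / 2) → ℕ × Prop :=
  Sum.elim (fun i => ((i : ℕ) + 1, False)) fun j => (2 * (j : ℕ) + 2, True)

theorem orderOf_eq_two_iff (a : Matrix.symplecticGroup (Fin m) F) :
    orderOf a = 2 ↔ a ^ 2 = 1 ∧ 0 < ((a : Matrix (Fin m ⊕ Fin m) (Fin m ⊕ Fin m) F) - 1).rank := by
  haveI : Fact (Nat.Prime 2) := ⟨Nat.prime_two⟩
  rw [orderOf_eq_prime_iff, and_congr_right_iff]
  intro _
  rw [Nat.pos_iff_ne_zero, not_iff_not, Matrix.rank, Submodule.finrank_eq_zero, LinearMap.range_eq_bot,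
    ← Matrix.toLin'_apply', EmbeddingLike.map_eq_zero_iff, sub_eq_zero, ← Subtype.coe_inj]
  rfl

theorem card_involution_classes [Finite F] :
    Nat.card {C : ConjClasses (Matrix.symplecticGroup (Fin m) F) //
      ∃ g : Matrix.symplecticGroup (Fin m) F, ConjClasses.mk g = C ∧ orderOf g = 2} = m + m / 2 := by
  have hex : ∀ p : Fin m ⊕ Fin (m / 2), ∃ a : Matrix.symplecticGroup (Fin m) F, a ^ 2 = 1 ∧
      ((a : Matrix (Fin m ⊕ Fin m) (Fin m ⊕ Fin m) F) - 1).rank = (classData p).1 ∧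
      (IsTypeA (sympBil m F) (tmap a) ↔ (classData p).2) := by
    rintro (i | j)
    · exact exists_invol (show (i : ℕ) + 1 ≤ m by omega) (Nat.succ_pos _) _ False.elim
    · exact exists_invol (by simp [classData]; omega) (by simp [classData]) _
        fun _ => ⟨(j : ℕ) + 1, by simp [classData]; omega⟩
  choose rep hsq hrank htype using hex
  have hord : ∀ p, orderOf (rep p) = 2 := fun p => (orderOf_eq_two_iff _).2
    ⟨hsq p, by rw [hrank]; rcases p with i | j <;> simp [classData]⟩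
  rw [← Nat.card_congr (Equiv.ofBijective
    (fun p => (⟨ConjClasses.mk (rep p), rep p, rfl, hord p⟩ :
      {C : ConjClasses (Matrix.symplecticGroup (Fin m) F) //
        ∃ g : Matrix.symplecticGroup (Fin m) F, ConjClasses.mk g = C ∧ orderOf g = 2})) ⟨?_, ?_⟩)]
  · simp
  · intro p p' hpp
    have h := (isConj_iff_rank_type (hsq p) (hsq p')).1
      (ConjClasses.mk_eq_mk_iff_isConj.1 (congrArg Subtype.val hpp))
    rw [hrank, hrank, htype, htype] at h
    obtain ⟨h1, h2⟩ := h
    rcases p with i | j <;> rcases p' with i' | j' <;>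
      simp [classData] at h1 h2 ⊢ <;> omega
  · rintro ⟨C, g, rfl, hg⟩
    obtain ⟨hg2, hpos⟩ := (orderOf_eq_two_iff g).1 hg
    have hle : ((g : Matrix (Fin m ⊕ Fin m) (Fin m ⊕ Fin m) F) - 1).rank ≤ m := by
      rw [← finrank_range_tmap]
      exact finrank_range_le (finrank_sympSpace m F) (sqZero_tmap hg2)
    by_cases ha : IsTypeA (sympBil m F) (tmap g)
    · obtain ⟨k, hk⟩ := rank_even_of_isTypeA hg2 ha
      refine ⟨Sum.inr ⟨k - 1, by omega⟩, Subtype.ext (ConjClasses.mk_eq_mk_iff_isConj.2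
        ((isConj_iff_rank_type (hsq _) hg2).2 ⟨?_, ?_⟩))⟩
      · rw [hrank, hk]; simp [classData]; omega
      · rw [htype]; simp [classData, ha]
    · refine ⟨Sum.inl ⟨((g : Matrix (Fin m ⊕ Fin m) (Fin m ⊕ Fin m) F) - 1).rank - 1, by omega⟩,
        Subtype.ext (ConjClasses.mk_eq_mk_iff_isConj.2
          ((isConj_iff_rank_type (hsq _) hg2).2 ⟨?_, ?_⟩))⟩
      · rw [hrank]; simp [classData]; omega
      · rw [htype]; simp [classData, ha]

end CfsgLib.Classical.CharTwo
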