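import Cfsg.Agent.Lib.Classical.CharTwo.StandardSigns
import Cfsg.Agent.Lib.Classical.CharTwo.SpMatrix

/-!
# Centralisers in `Ω` of involutions of `O⁺`
-/

set_option autoImplicit false
set_option maxHeartbeats 800000

namespace CfsgLib.Classical.CharTwo

open scoped Matrix
open QuadraticMap (polar polarBilin)
open CfsgLib.Classical.Quad CfsgLib.Known.OmegaCriterion

variable {F : Type*} [Field F] [CharP F 2] [Fintype F] {ι : Type} [Fintype ι] [DecidableEq ι]
  {Q : QuadraticForm F (ι → F)} {m s : ℕ} (hQ : (polarBilin Q).Nondegenerate)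
  (hι : Fintype.card ι = 2 * m) (hex : (∃ c : F, c ≠ 0 ∧ c ≠ 1) ∨ Fintype.card ι ≠ 4)
  {a : ↥(Cfsg.isometryGroup F ⇑Q)} (ha : a ^ 2 = 1)
  (hs : (((a : Matrix.GeneralLinearGroup ι F) : Matrix ι ι F) - 1).rank = s)

include hι hs in
omit [CharP F 2] in
theorem card_ker_omap : Nat.card (LinearMap.ker (omap a)) = Fintype.card F ^ (2 * m - s) := by
  rw [Module.natCard_eq_pow_finrank (K := F), Nat.card_eq_fintype_card]
  have h1 := (omap a).finrank_range_add_finrank_ker
  rw [finrank_pi_eq hι, finrank_range_omap, hs] at h1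
  congr 1
  omega

include hQ hι ha hs in
theorem rank_le_half : s ≤ m := by
  rw [← hs, ← finrank_range_omap]
  exact finrank_range_le (finrank_pi_eq hι) (sqZero_omap hQ ha)

include hQ hι hex ha hs in
/-- The relation between the two centralisers when `Q` does not vanish on the image. -/
theorem card_centr_of_ne_zero {v : ι → F} (hv : Q (omap a v) ≠ 0) :
    Nat.card (centr (polarBilin Q) (omap a)) = Fintype.card F ^ (2 * m - s) *
      Nat.card {g : ↥(Cfsg.Omega F ⇑Q) //
        (g : ↥(Cfsg.isometryGroup F ⇑Q)) * a = a * (g : ↥(Cfsg.isometryGroup F ⇑Q))} := by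
  classical
  have h := sqZero_omap hQ ha
  have hz := two_mul_card_shifts (Q := Q) (T := omap a)
  rw [signSum_ker_not_typeA h hv, add_zero, ← Nat.card_eq_fintype_card, card_ker_omap hι hs] at hz
  have hz' : 2 * Nat.card {z : ι → F // omap a z = 0 ∧ psi (Q z) = 1} = Fintype.card F ^ (2 * m - s) := by
    exact_mod_cast hz
  rw [card_commuting_eq hQ hex, card_centr_eq_mul hQ h (omap_inv a),
    card_centrO_eq_two_mul hQ (reflGroup_pi_eq_top hQ hex) h hv (h.sq v), ← hz']
  ring

include hQ hι ha hs in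
theorem two_mul_card_shifts_typeA (halt : ∀ v, Q (omap a v) = 0)
    (hsign : signSum ⇑Q = (Fintype.card F : ℤ) ^ m) :
    2 * Nat.card {z : ι → F // omap a z = 0 ∧ psi (Q z) = 1} =
      Fintype.card F ^ (2 * m - s) + Fintype.card F ^ m := by
  classical
  have hz := two_mul_card_shifts (Q := Q) (T := omap a)
  rw [signSum_ker_typeA hQ (sqZero_omap hQ ha) halt, hsign, ← Nat.card_eq_fintype_card,
    card_ker_omap hι hs] at hz
  exact_mod_cast hz

include hQ hι hex ha hs in
theorem card_centr_of_zero_lt (halt : ∀ v, Q (omap a v) = 0)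
    (hsign : signSum ⇑Q = (Fintype.card F : ℤ) ^ m) (hlt : s < m) :
    Nat.card (centr (polarBilin Q) (omap a)) =
      (Fintype.card F ^ (2 * m - s) + Fintype.card F ^ m) *
      Nat.card {g : ↥(Cfsg.Omega F ⇑Q) //
        (g : ↥(Cfsg.isometryGroup F ⇑Q)) * a = a * (g : ↥(Cfsg.isometryGroup F ⇑Q))} := by
  have h := sqZero_omap hQ ha
  obtain ⟨z, hz, hz0⟩ : ∃ z, omap a z = 0 ∧ Q z ≠ 0 := by
    by_contra hc
    push Not at hc
    have := ((ker_singular_iff hQ h (finrank_pi_eq hι)).1 hc).1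
    rw [finrank_range_omap, hs] at this
    omega
  rw [card_commuting_eq hQ hex, card_centr_eq_mul hQ h (omap_inv a),
    card_centrO_eq_two_mul hQ (reflGroup_pi_eq_top hQ hex) h hz0 hz,
    ← two_mul_card_shifts_typeA hQ hι ha hs halt hsign]
  ring

include hQ hι hex ha hs in
theorem card_centr_of_zero_eq (halt : ∀ v, Q (omap a v) = 0)
    (hsign : signSum ⇑Q = (Fintype.card F : ℤ) ^ m) (heq : s = m) :
    Nat.card (centr (polarBilin Q) (omap a)) = Fintype.card F ^ m *
      Nat.card {g : ↥(Cfsg.Omega F ⇑Q) //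
        (g : ↥(Cfsg.isometryGroup F ⇑Q)) * a = a * (g : ↥(Cfsg.isometryGroup F ⇑Q))} := by
  have h := sqZero_omap hQ ha
  have h2 := two_mul_card_shifts_typeA hQ hι ha hs halt hsign
  rw [heq, show 2 * m - m = m by omega] at h2
  rw [card_commuting_eq hQ hex, card_centr_eq_mul hQ h (omap_inv a),
    card_centrO_eq hQ (reflGroup_pi_eq_top hQ hex) h (finrank_pi_eq hι)
      ((finrank_range_omap a).trans (hs.trans heq)) halt (omap_inv a)]
  congr 1
  omega

theorem exp_ob (s d : ℕ) (hs : 1 ≤ s) :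
    s * (2 * d) + (s + 1).choose 2 =
      2 * (s + d) * (s - 1) - (3 * s ^ 2 - 3 * s) / 2 + (2 * (s + d) - s) := by
  obtain ⟨u, rfl⟩ : ∃ u, s = u + 1 := ⟨s - 1, by omega⟩
  have h := choose_succ_two (u + 1)
  have h1 : 2 * (u + 1 + d) * (u + 1 - 1) = 2 * (u * u) + 2 * u + 2 * (u * d) := by
    rw [Nat.add_sub_cancel]; ring
  have h2 : (u + 1) * (2 * d) = 2 * (u * d) + 2 * d := by ring
  have h3 : 3 * (u + 1) ^ 2 = 3 * (u * u) + 6 * u + 3 := by ring
  have h4 : (u + 1) * (u + 1) = u * u + 2 * u + 1 := by ring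
  have h5 : u ≤ u * u := Nat.le_mul_self u
  rw [h4] at h
  rw [h1, h2, h3]
  generalize u * u = w at *
  generalize u * d = z at *
  omega

theorem exp_oa (s d : ℕ) :
    s * (2 * d) + (s + 1).choose 2 = 2 * (s + d) * s - (3 * s ^ 2 + s) / 2 + s := by
  have h := choose_succ_two s
  have h1 : 2 * (s + d) * s = 2 * (s * s) + 2 * (s * d) := by ring
  have h2 : s * (2 * d) = 2 * (s * d) := by ring
  have h3 : 3 * s ^ 2 = 3 * (s * s) := by ring
  have h4 : s ≤ s * s := Nat.le_mul_self s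
  rw [h1, h2, h3]
  generalize s * s = u at *
  omega

theorem exp_oc (s d : ℕ) (hs : 2 ≤ s) :
    s * (2 * d) + (s + 1).choose 2 + (s - 1) =
      2 * (s + d) * (s - 1) - (3 * s ^ 2 - 5 * s) / 2 - 1 + (2 * (s + d) - s) := by
  obtain ⟨u, rfl⟩ : ∃ u, s = u + 2 := ⟨s - 2, by omega⟩
  have h := choose_succ_two (u + 2)
  have h1 : 2 * (u + 2 + d) * (u + 2 - 1) = 2 * (u * u) + 6 * u + 2 * (u * d) + 2 * d + 4 := by
    rw [show u + 2 - 1 = u + 1 by omega]; ring
  have h2 : (u + 2) * (2 * d) = 2 * (u * d) + 4 * d := by ring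
  have h3 : 3 * (u + 2) ^ 2 = 3 * (u * u) + 12 * u + 12 := by ring
  have h4 : (u + 2) * (u + 2) = u * u + 4 * u + 4 := by ring
  have h5 : u ≤ u * u := Nat.le_mul_self u
  rw [h4] at h
  rw [h1, h2, h3]
  generalize u * u = w at *
  generalize u * d = z at *
  omega

omit [CharP F 2] in
theorem qpow_pos (n : ℕ) : 0 < Fintype.card F ^ n := pow_pos Fintype.card_pos n

include hQ hι ha hs in
theorem exists_frame_one {v : ι → F} (hv : Q (omap a v) ≠ 0) :
    ∃ x : Fin s → (ι → F), IsFrame (polarBilin Q) (omap a) (1 : Matrix (Fin s) (Fin s) F) x :=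
  exists_frame_not_typeA (isAlt_polarBilin Q) (sqZero_omap hQ ha)
    (fun h0 => hv ((apply_T (omap_inv a) v).trans (h0 v))) ((finrank_range_omap a).trans hs)

include hQ hι hex ha hs in
theorem card_commuting_odd {v : ι → F} (hv : Q (omap a v) ≠ 0) {k : ℕ} (hk : s = 2 * k + 1) :
    Nat.card {g : ↥(Cfsg.Omega F ⇑Q) //
        (g : ↥(Cfsg.isometryGroup F ⇑Q)) * a = a * (g : ↥(Cfsg.isometryGroup F ⇑Q))} =
      Fintype.card F ^ (2 * m * (s - 1) - (3 * s ^ 2 - 3 * s) / 2) *
        (Fintype.card F ^ (k ^ 2) * ∏ i ∈ Finset.range k, (Fintype.card F ^ (2 * (i + 1)) - 1)) *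
        (Fintype.card F ^ ((m - s) ^ 2) *
          ∏ i ∈ Finset.range (m - s), (Fintype.card F ^ (2 * (i + 1)) - 1)) := by
  obtain ⟨x, hx⟩ := exists_frame_one hQ hι ha hs hv
  have hc := card_centr_of_ne_zero hQ hι hex ha hs hv
  obtain ⟨d, rfl⟩ : ∃ d, m = s + d := Nat.exists_eq_add_of_le (rank_le_half hQ hι ha hs)
  rw [card_centr_of_frame (isAlt_polarBilin Q) (sqZero_omap hQ ha) hx
    (by rw [Matrix.det_one]; exact isUnit_one) (by rw [finrank_range_omap, hs, Fintype.card_fin])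
    (finrank_pi_eq hι), card_gramPres_one_odd hk, Nat.card_eq_fintype_card, Fintype.card_fin,
    Nat.add_sub_cancel_left, exp_ob s d (by omega), pow_add] at hc
  rw [Nat.add_sub_cancel_left]
  refine Nat.eq_of_mul_eq_mul_left (qpow_pos (F := F) (2 * (s + d) - s)) (hc.symm.trans ?_)
  ring

include hQ hι hex ha hs in
theorem card_commuting_even {v : ι → F} (hv : Q (omap a v) ≠ 0) {k : ℕ} (hk : s = 2 * (k + 1)) :
    Nat.card {g : ↥(Cfsg.Omega F ⇑Q) //
        (g : ↥(Cfsg.isometryGroup F ⇑Q)) * a = a * (g : ↥(Cfsg.isometryGroup F ⇑Q))} =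
      Fintype.card F ^ (2 * m * (s - 1) - (3 * s ^ 2 - 5 * s) / 2 - 1) *
        (Fintype.card F ^ (k ^ 2) * ∏ i ∈ Finset.range k, (Fintype.card F ^ (2 * (i + 1)) - 1)) *
        (Fintype.card F ^ ((m - s) ^ 2) *
          ∏ i ∈ Finset.range (m - s), (Fintype.card F ^ (2 * (i + 1)) - 1)) := by
  obtain ⟨x, hx⟩ := exists_frame_one hQ hι ha hs hv
  have hc := card_centr_of_ne_zero hQ hι hex ha hs hv
  obtain ⟨d, rfl⟩ : ∃ d, m = s + d := Nat.exists_eq_add_of_le (rank_le_half hQ hι ha hs)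
  rw [card_centr_of_frame (isAlt_polarBilin Q) (sqZero_omap hQ ha) hx
    (by rw [Matrix.det_one]; exact isUnit_one) (by rw [finrank_range_omap, hs, Fintype.card_fin])
    (finrank_pi_eq hι), card_gramPres_one_even hk, Nat.card_eq_fintype_card, Fintype.card_fin,
    Nat.add_sub_cancel_left, show 2 * k + 1 = s - 1 by omega, ← mul_assoc (_ ^ _) (_ ^ (s - 1)),
    ← pow_add, exp_oc s d (by omega), pow_add] at hc
  rw [Nat.add_sub_cancel_left]
  refine Nat.eq_of_mul_eq_mul_left (qpow_pos (F := F) (2 * (s + d) - s)) (hc.symm.trans ?_)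
  ring

include hQ hι hex ha hs in
theorem card_commuting_typeA (halt : ∀ v, Q (omap a v) = 0)
    (hsign : signSum ⇑Q = (Fintype.card F : ℤ) ^ m) {k : ℕ} (hk : s = 2 * k) :
    Nat.card {g : ↥(Cfsg.Omega F ⇑Q) //
        (g : ↥(Cfsg.isometryGroup F ⇑Q)) * a = a * (g : ↥(Cfsg.isometryGroup F ⇑Q))} =
      Fintype.card F ^ (2 * m * s - (3 * s ^ 2 + s) / 2) *
        (Fintype.card F ^ (k ^ 2) * ∏ i ∈ Finset.range k, (Fintype.card F ^ (2 * (i + 1)) - 1)) *
        (if s = m then 1 else Fintype.card F ^ ((m - s) * (m - s - 1)) *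
          (Fintype.card F ^ (m - s) - 1) *
          ∏ i ∈ Finset.range (m - s - 1), (Fintype.card F ^ (2 * (i + 1)) - 1)) := by
  have h := sqZero_omap hQ ha
  obtain ⟨k', x, hx, hk'⟩ := exists_frame_typeA (isAlt_polarBilin Q) h
    fun v => (apply_T (omap_inv a) v).symm.trans (halt v)
  obtain rfl : k' = k := by rw [finrank_range_omap, hs] at hk'; omega
  obtain ⟨d, rfl⟩ : ∃ d, m = s + d := Nat.exists_eq_add_of_le (rank_le_half hQ hι ha hs)
  have hc' : Fintype.card (Fin k' ⊕ Fin k') = s := by simp [hk, two_mul]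
  have e := card_centr_of_frame (isAlt_polarBilin Q) h hx (Matrix.isUnit_det_J (Fin k') F)
    (by rw [finrank_range_omap, hs, hc']) (finrank_pi_eq hι)
  rw [card_gramPres_J, Symp.card_symplecticGroup, Nat.card_eq_fintype_card (α := F), hc',
    Nat.add_sub_cancel_left, exp_oa s d, pow_add] at e
  rw [Nat.add_sub_cancel_left]
  rcases d with _ | d
  · have hc := card_centr_of_zero_eq hQ hι hex ha hs halt hsign (by omega)
    rw [e] at hc
    rw [if_pos (add_zero s).symm]
    refine Nat.eq_of_mul_eq_mul_left (qpow_pos (F := F) (s + 0)) (hc.symm.trans ?_)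
    simp
    ring
  · have hc := card_centr_of_zero_lt hQ hι hex ha hs halt hsign (by omega)
    rw [e] at hc
    rw [if_neg (by omega), Nat.add_sub_cancel]
    have hpos : 0 < Fintype.card F ^ (2 * (s + (d + 1)) - s) + Fintype.card F ^ (s + (d + 1)) := by
      have := qpow_pos (F := F) (s + (d + 1))
      omega
    refine Nat.eq_of_mul_eq_mul_left hpos (hc.symm.trans ?_)
    rw [show 2 * (s + (d + 1)) - s = s + ((d + 1) + (d + 1)) by omega, pow_add, pow_add, pow_add,
      Finset.prod_range_succ, show (d + 1) ^ 2 = (d + 1) * d + (d + 1) by ring, pow_add,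
      show Fintype.card F ^ (2 * (d + 1)) - 1 = (Fintype.card F ^ (d + 1) + 1) * (Fintype.card F ^ (d + 1) - 1) by
        have h1 : 1 ≤ Fintype.card F ^ (d + 1) := qpow_pos (F := F) _
        obtain ⟨t, ht⟩ := Nat.exists_eq_add_of_le h1
        rw [show 2 * (d + 1) = (d + 1) + (d + 1) by ring, pow_add, ht]
        simp only [Nat.add_sub_cancel_left]
        ring_nf
        omega]
    ring

end CfsgLib.Classical.CharTwo
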