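import Cfsg.Agent.Lib.Classical.Quad.Reflections

/-!
# Generation by reflections when the Witt index is at most one
-/

set_option autoImplicit false

namespace CfsgLib.Classical.CharTwo

open QuadraticMap (polar polarBilin)
open CfsgLib.Classical.Quad

variable {F : Type*} [Field F] {V : Type*} [AddCommGroup V] [Module F V] [FiniteDimensional F V]
  {Q : QuadraticForm F V}

theorem eichler_mem_reflGroup_witt_one
    (hw1 : ∀ X : Submodule F V, (∀ x ∈ X, Q x = 0) → Module.finrank F X ≤ 1) {w a : V} (hw : Q w = 0)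
    (haw : polar Q w a = 0) {g : OQ Q} (hg : ∀ z, (g : V ≃ₗ[F] V) z =
      z + (polar Q z a - Q a * polar Q z w) • w + (-polar Q z w) • a) : g ∈ reflGroup Q := by
  by_cases ha : Q a = 0
  swap
  · exact eichler_eq_refl_mul hw haw ha hg
  suffices g = 1 by rw [this]; exact one_mem _
  refine Subtype.ext (LinearEquiv.ext fun z => ?_)
  rw [hg]
  show _ = z
  by_cases hw0 : w = 0
  · subst hw0
    simp
  obtain ⟨c, rfl⟩ : ∃ c : F, a = c • w := by
    by_contra hspan
    push Not at hspan
    have hX : ∀ x ∈ Submodule.span F ({w, a} : Set V), Q x = 0 := by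
      intro x hx
      obtain ⟨r, t, rfl⟩ := Submodule.mem_span_pair.1 hx
      simp [apply_add, apply_smul, polar_smul_left', polar_smul_right', hw, ha, haw]
    have hli : LinearIndependent F ![w, a] := (LinearIndependent.pair_iff' hw0).2 fun c h => hspan c h.symm
    have h2 := finrank_span_eq_card hli
    rw [Matrix.range_cons_cons_empty, Fintype.card_fin] at h2
    have := hw1 _ hX
    omega
  rw [apply_smul, hw, polar_smul_right']
  module

theorem witt_step_refl_witt_one (hQ : (polarBilin Q).Nondegenerate)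
    (hw1 : ∀ X : Submodule F V, (∀ x ∈ X, Q x = 0) → Module.finrank F X ≤ 1) {U : Submodule F V} {x y : V}
    (hxU : x ∉ U) (hyU : y ∉ U) (hq : Q y = Q x) (hpol : ∀ u ∈ U, polar Q u y = polar Q u x) :
    ∃ g ∈ reflGroup Q, (∀ u ∈ U, (g : V ≃ₗ[F] V) u = u) ∧ (g : V ≃ₗ[F] V) x = y := by
  set w := y - x with hw
  have hy : y = x + w := by rw [hw]; abel
  have hwU : ∀ u ∈ U, polar Q u w = 0 := fun u hu => by
    rw [hw, QuadraticMap.polar_sub_right, hpol u hu, sub_self]
  have hxw : polar Q x w = -Q w := by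
    have h1 := apply_add (Q := Q) x w
    rw [← hy, hq] at h1
    linear_combination -h1
  by_cases hQw : Q w = 0
  swap
  · refine ⟨refl hQw, refl_mem_reflGroup hQw, fun u hu => ?_, ?_⟩
    · rw [refl_apply, hwU u hu, mul_zero, zero_smul, sub_zero]
    · rw [refl_apply, hxw, mul_neg, inv_mul_cancel₀ hQw, neg_smul, one_smul, hy, sub_neg_eq_add]
  rw [hQw, neg_zero] at hxw
  by_cases hxs : x ∈ U ⊔ Submodule.span F {w}
  swap
  · obtain ⟨a, ha, haU⟩ := exists_sep_polar hQ hxs
    have haw := haU w (Submodule.mem_sup_right (Submodule.mem_span_singleton_self w))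
    obtain ⟨g, hg⟩ := exists_eichler hQ hQw haw
    refine ⟨g, eichler_mem_reflGroup_witt_one hw1 hQw haw hg, fun u hu => ?_, ?_⟩
    · rw [hg, haU u (Submodule.mem_sup_left hu), hwU u hu]
      simp
    · rw [hg, ha, hxw, hy]
      simp
  obtain ⟨u₀, hu₀, _, hcw, e⟩ := Submodule.mem_sup.1 hxs
  obtain ⟨c, rfl⟩ := Submodule.mem_span_singleton.1 hcw
  have hc : c ≠ 0 := fun h0 => hxU (by rw [← e, h0, zero_smul, add_zero]; exact hu₀)
  have hd : c + 1 ≠ 0 := fun h0 => hyU (by
    rw [hy, ← e, add_assoc, show c • w + w = (c + 1) • w by rw [add_smul, one_smul], h0,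
      zero_smul, add_zero]
    exact hu₀)
  have hwn : w ∉ U := fun h0 => hxU (by rw [← e]; exact U.add_mem hu₀ (U.smul_mem _ h0))
  obtain ⟨w', hw', hww', hw'U⟩ := exists_singular_partner hQ hQw hwU hwn
  obtain ⟨g, hg⟩ := exists_dilation hQ hQw hw' hww' (d := (c + 1) / c) (div_ne_zero hd hc)
  refine ⟨g, dilation_mem_reflGroup hQw hw' hww' (div_ne_zero hd hc) hg, fun u hu => ?_, ?_⟩
  · rw [hg, hw'U u hu, hwU u hu]
    simp
  · rw [hg, hxw, mul_zero, zero_smul, add_zero, hy]
    conv_lhs => rw [← e]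
    rw [← e, polar_add_left', polar_smul_left', hw'U u₀ hu₀, hww']
    match_scalars <;> field_simp <;> ring

/-- The isometry group is generated by reflections if the Witt index is at most one. -/
theorem reflGroup_eq_top_witt_one (hQ : (polarBilin Q).Nondegenerate)
    (hw1 : ∀ X : Submodule F V, (∀ x ∈ X, Q x = 0) → Module.finrank F X ≤ 1) : reflGroup Q = ⊤ := by
  rw [eq_top_iff]
  rintro g -
  let b := Module.finBasis F V
  have key : ∀ k ≤ Module.finrank F V, ∃ s ∈ reflGroup Q, ∀ i : Fin (Module.finrank F V),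
      (i : ℕ) < k → (s : V ≃ₗ[F] V) (b i) = (g : V ≃ₗ[F] V) (b i) := by
    intro k hk
    induction k with
    | zero => exact ⟨1, one_mem _, fun i hi => absurd hi (Nat.not_lt_zero _)⟩
    | succ k ih =>
      obtain ⟨s, hs, hsb⟩ := ih (by omega)
      let i₀ : Fin (Module.finrank F V) := ⟨k, hk⟩
      set h : OQ Q := s⁻¹ * g with hh
      have hfix : ∀ i : Fin (Module.finrank F V), (i : ℕ) < k → (h : V ≃ₗ[F] V) (b i) = b i :=
        fun i hi => by
          show (s : V ≃ₗ[F] V).symm ((g : V ≃ₗ[F] V) (b i)) = b i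
          rw [← hsb i hi, LinearEquiv.symm_apply_apply]
      let U := Submodule.span F (b '' {i | (i : ℕ) < k})
      have hU : ∀ u ∈ U, (h : V ≃ₗ[F] V) u = u := fun u hu => by
        refine LinearMap.eqOn_span (f := ((h : V ≃ₗ[F] V) : V →ₗ[F] V)) (g := LinearMap.id) ?_ hu
        rintro _ ⟨i, hi, rfl⟩
        exact hfix i hi
      have hxU : b i₀ ∉ U := fun hmem =>
        b.linearIndependent.notMem_span_image (by simp [i₀]) hmem
      have hyU : (h : V ≃ₗ[F] V) (b i₀) ∉ U := fun hmem => hxU (by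
        have h1 := hU _ hmem
        rw [(h : V ≃ₗ[F] V).injective.eq_iff] at h1
        rwa [h1] at hmem)
      obtain ⟨t, ht, htU, htx⟩ := witt_step_refl_witt_one hQ hw1 hxU hyU (OQ.map_apply h _) fun u hu => by
        conv_lhs => rw [← hU u hu]
        rw [OQ.map_polar]
      refine ⟨s * t, mul_mem hs ht, fun i hi => ?_⟩
      show (s : V ≃ₗ[F] V) ((t : V ≃ₗ[F] V) (b i)) = _
      rcases Nat.lt_succ_iff_lt_or_eq.1 hi with hlt | heq
      · rw [htU _ (Submodule.subset_span ⟨i, hlt, rfl⟩), hsb i hlt]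
      · rw [show i = i₀ from Fin.ext heq, htx]
        exact (s : V ≃ₗ[F] V).apply_symm_apply _
  obtain ⟨s, hs, hsb⟩ := key _ le_rfl
  have : g = s := Subtype.ext (LinearEquiv.toLinearMap_injective
    (b.ext fun i => (hsb i i.2).symm))
  rwa [this]

end CfsgLib.Classical.CharTwo
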