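import Cfsg.Agent.Lib.Classical.CharTwo.OrthMinus
import Cfsg.Agent.Lib.Classical.CharTwo.SpMatrix
import Cfsg.Agent.Lib.Classical.CharTwo.ReflWittOne

/-!
# Classes of involutions of orthogonal groups in characteristic two
-/

set_option autoImplicit false
set_option maxHeartbeats 800000

namespace CfsgLib.Classical.CharTwo

open scoped Matrix
open QuadraticMap (polar polarBilin)
open LinearMap (BilinForm)
open CfsgLib.Classical.Quad CfsgLib.Known.OmegaCriterion

section Existence

variable {F : Type*} [Field F] [CharP F 2] {V : Type*} [AddCommGroup V] [Module F V]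
  [FiniteDimensional F V] {Q : QuadraticForm F V} {T : V →ₗ[F] V}

theorem finrank_range_intertwined {T' : V →ₗ[F] V} (r : V ≃ₗ[F] V) (hr : ∀ v, r (T v) = T' (r v)) :
    Module.finrank F (LinearMap.range T') = Module.finrank F (LinearMap.range T) := by
  have e : (LinearMap.range T).map (r : V →ₗ[F] V) = LinearMap.range T' := by
    ext w
    constructor
    · rintro ⟨_, ⟨v, rfl⟩, rfl⟩
      exact ⟨_, (hr v).symm⟩
    · rintro ⟨v, rfl⟩
      obtain ⟨u, rfl⟩ := r.surjective v
      exact ⟨T u, LinearMap.mem_range_self T u, hr u⟩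
  rw [← e, LinearEquiv.finrank_map_eq]

theorem mem_range_of_perp_ker (hQ : (polarBilin Q).Nondegenerate) (h : SqZero (polarBilin Q) T) {w : V}
    (hw : ∀ v, T v = 0 → polar Q v w = 0) : w ∈ LinearMap.range T := by
  have hle : LinearMap.range T ≤ BilinForm.orthogonal (polarBilin Q) (LinearMap.ker T) := by
    rintro _ ⟨v, rfl⟩
    exact mem_orth.2 fun k hk => ((h.adj k v).symm).trans
      (by rw [LinearMap.mem_ker.1 hk, map_zero, LinearMap.zero_apply])
  have e : LinearMap.range T = BilinForm.orthogonal (polarBilin Q) (LinearMap.ker T) := by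
    refine Submodule.eq_of_le_of_finrank_eq hle ?_
    rw [BilinForm.finrank_orthogonal hQ]
    have h1 := T.finrank_range_add_finrank_ker
    omega
  rw [e]
  exact mem_orth.2 fun k hk => hw k (LinearMap.mem_ker.1 hk)

variable [Finite F] [Fintype V]

/-- A symplectic involution is conjugate into `O(Q)` outside the exceptional case of negative sign. -/
theorem exists_symp_into_ortho (hQ : (polarBilin Q).Nondegenerate) (h : SqZero (polarBilin Q) T)
    {m : ℕ} (hV : Module.finrank F V = 2 * m)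
    (hok : 0 < signSum Q ∨ ¬ (Module.finrank F (LinearMap.range T) = m ∧ IsTypeA (polarBilin Q) T)) :
    ∃ (r : Symp.Sp (polarBilin Q)) (T' : V →ₗ[F] V), SqZero (polarBilin Q) T' ∧
      (∀ v, Q (v + T' v) = Q v) ∧ ∀ v, (r : V ≃ₗ[F] V) (T v) = T' ((r : V ≃ₗ[F] V) v) := by
  have hA := isAlt_polarBilin Q
  have h2 := CharTwo.two_eq_zero (R := F)
  -- a shift making the form invariant
  obtain ⟨w, hw⟩ := exists_shift_form hQ (fun v => Q (T v) + polar Q v (T v))
    (fun u v => by
      have hc : polar Q v (T u) = polar Q u (T v) := by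
        rw [QuadraticMap.polar_comm]
        exact h.adj u v
      have hTT : polar Q (T u) (T v) = 0 := h.map_range u v
      rw [map_add, apply_add, hTT, polar_add_left', polar_add_right', polar_add_right', hc]
      linear_combination (polar Q u (T v)) * h2)
    (fun c v => by rw [map_smul, apply_smul, polar_smul_left', polar_smul_right']; ring)
  obtain ⟨z0, rfl⟩ : w ∈ LinearMap.range T := mem_range_of_perp_ker hQ h fun v hv =>
    pow_eq_zero_iff two_ne_zero |>.1 (by
      rw [← hw, hv, QuadraticMap.map_zero, QuadraticMap.polar_zero_right, add_zero])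
  -- a shift of sign one keeping the form invariant
  obtain ⟨z, hTz, hz⟩ : ∃ z, T z = 0 ∧ psi (Q (z0 + z)) = 1 := by
    rcases psi_cases (Q z0) with h1 | h1
    · exact ⟨0, map_zero T, by rw [add_zero, h1]⟩
    by_contra hc
    push Not at hc
    let φ : V →ₗ[F] F := (polarBilin Q).flip z0
    let Q' : QuadraticForm F V := Q + QuadraticMap.linMulLin φ φ
    have hQ' : ∀ v, Q' v = Q v + polar Q v z0 ^ 2 := fun v => by
      show Q v + polar Q v z0 * polar Q v z0 = _
      ring
    have hpol : ∀ u v, polar Q' u v = polar Q u v := fun u v => by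
      show Q' (u + v) - Q' u - Q' v = polar Q u v
      rw [hQ', hQ', hQ', apply_add, polar_add_left', CharTwo.add_sq]
      ring
    have hbil : polarBilin Q' = polarBilin Q := LinearMap.ext fun u => LinearMap.ext fun v => hpol u v
    have hsing : ∀ v, T v = 0 → Q' v = 0 := by
      intro v hv
      by_contra h0
      obtain ⟨c, hc1⟩ := exists_psi_neg (F := F)
      obtain ⟨d, hd⟩ := FiniteField.isSquare_of_char_two (ringChar.eq F 2) (c / Q' v)
      refine hc (d • v) (by rw [map_smul, hv, smul_zero]) ?_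
      have e : psi (Q' (d • v)) = -1 := by rw [apply_smul, ← hd, div_mul_cancel₀ _ h0, hc1]
      rw [hQ', psi_add, psi_sq] at e
      rw [apply_add, psi_add, psi_add, h1, QuadraticMap.polar_comm, mul_assoc, e]
      decide
    have hinv : ∀ v, Q' (v + T v) = Q' v := fun v => by
      rw [hQ', hQ', apply_add, polar_add_left',
        show polar Q (T v) z0 = polar Q v (T z0) from h.adj v z0, CharTwo.add_sq, ← hw]
      linear_combination (Q (T v) + polar Q v (T v)) * h2
    have halt : ∀ v, Q' (T v) = 0 := fun v => hsing _ (h.sq v)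
    have hex := (ker_singular_iff (Q := Q') (T := T) (by rwa [hbil]) (by rwa [hbil]) hV).1 hsing
    have hA' : IsTypeA (polarBilin Q) T := fun v => by
      rw [← hbil]
      exact (apply_T hinv v).symm.trans (halt v)
    rcases hok with hpos | hne
    · classical
      have e := signSum_eq_card_ker (Q := Q') (T := T) (by rwa [hbil]) (by rwa [hbil]) hsing
      rw [show (⇑Q' : V → F) = fun v => Q v + polar Q v z0 ^ 2 from funext hQ', signSum_shift, h1] at e
      linarith [Int.natCast_nonneg (Fintype.card (LinearMap.ker T))]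
    · exact hne ⟨hex.1, hA'⟩
  have h0 : SqZero (polarBilin Q) (0 : V →ₗ[F] V) := ⟨h.symm, h.nondeg, fun v => rfl, fun u v => by simp⟩
  obtain ⟨r, -, hr⟩ := exists_transvection (z := z0 + z) h0 rfl hz
  have hinv1 : ∀ v, Q (v + T v) + polar Q (v + T v) (z0 + z) ^ 2 = Q v + polar Q v (z0 + z) ^ 2 := fun v => by
    rw [apply_add, polar_add_left',
      show polar Q (T v) (z0 + z) = polar Q v (T (z0 + z)) from h.adj v _, map_add T, hTz, add_zero,
      CharTwo.add_sq, ← hw]
    linear_combination (Q (T v) + polar Q v (T v)) * h2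
  let T' : V →ₗ[F] V := (r : V ≃ₗ[F] V).toLinearMap ∘ₗ T ∘ₗ (r : V ≃ₗ[F] V).symm.toLinearMap
  have hT' : ∀ v, (r : V ≃ₗ[F] V) (T v) = T' ((r : V ≃ₗ[F] V) v) := fun v => by simp [T']
  have hrp : ∀ u v, polar Q ((r : V ≃ₗ[F] V) u) ((r : V ≃ₗ[F] V) v) = polar Q u v := r.2
  refine ⟨r, T', ⟨h.symm, h.nondeg, fun v => ?_, fun u v => ?_⟩, fun v => ?_, hT'⟩
  · obtain ⟨v, rfl⟩ := (r : V ≃ₗ[F] V).surjective v
    rw [← hT', ← hT', h.sq, map_zero]
  · obtain ⟨u, rfl⟩ := (r : V ≃ₗ[F] V).surjective u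
    obtain ⟨v, rfl⟩ := (r : V ≃ₗ[F] V).surjective v
    rw [← hT', ← hT']
    exact (hrp _ _).trans ((h.adj u v).trans (hrp _ _).symm)
  · obtain ⟨v, rfl⟩ := (r : V ≃ₗ[F] V).surjective v
    rw [← hT', ← map_add, hr, hr, hinv1]

end Existence

section Transport

variable {F : Type*} [Field F] [CharP F 2] [Finite F] {V : Type*} [AddCommGroup V] [Module F V]
  [FiniteDimensional F V] {Q : QuadraticForm F V} {m : ℕ}

/-- Square-zero maps of every rank and type. -/
theorem exists_sqZero (hQ : (polarBilin Q).Nondegenerate) (hV : Module.finrank F V = 2 * m) {s : ℕ}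
    (hs : s ≤ m) (hs0 : 0 < s) (α : Prop) (hα : α → Even s) :
    ∃ T : V →ₗ[F] V, SqZero (polarBilin Q) T ∧ Module.finrank F (LinearMap.range T) = s ∧
      (IsTypeA (polarBilin Q) T ↔ α) := by
  obtain ⟨a, ha, har, hat⟩ := exists_invol (F := F) hs hs0 α hα
  obtain ⟨e, he⟩ := Symp.exists_isometry (Symp.sympBil_isAlt m F) (Symp.sympBil_nondegenerate m F)
    (isAlt_polarBilin Q) hQ (by rw [Symp.finrank_sympSpace, hV])
  have he' : ∀ u v, polar Q (e u) (e v) = Symp.sympBil m F u v := he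
  have h := sqZero_tmap ha
  let T : V →ₗ[F] V := e.toLinearMap ∘ₗ tmap a ∘ₗ e.symm.toLinearMap
  have hT : ∀ u, T (e u) = e (tmap a u) := fun u => by simp [T]
  refine ⟨T, ⟨fun u v => QuadraticMap.polar_comm _ u v, fun u hu => hQ.1 u hu, fun v => ?_,
    fun u v => ?_⟩, ?_, ?_⟩
  · obtain ⟨v, rfl⟩ := e.surjective v
    rw [hT, hT, h.sq, map_zero]
  · obtain ⟨u, rfl⟩ := e.surjective u
    obtain ⟨v, rfl⟩ := e.surjective v
    rw [hT, hT]
    exact (he' _ _).trans ((h.adj u v).trans (he' _ _).symm)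
  · have e1 : (LinearMap.range (tmap a)).map (e : (Fin m ⊕ Fin m → F) →ₗ[F] V) = LinearMap.range T := by
      ext w
      constructor
      · rintro ⟨_, ⟨v, rfl⟩, rfl⟩
        exact ⟨_, hT v⟩
      · rintro ⟨v, rfl⟩
        obtain ⟨u, rfl⟩ := e.surjective v
        exact ⟨_, LinearMap.mem_range_self _ u, (hT u).symm⟩
    rw [← e1, LinearEquiv.finrank_map_eq, finrank_range_tmap, har]
  · rw [← hat]
    refine ⟨fun hh v => ?_, fun hh v => ?_⟩
    · rw [← he', ← hT]
      exact hh (e v)
    · obtain ⟨v, rfl⟩ := e.surjective v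
      rw [hT]
      exact (he' _ _).trans (hh v)

end Transport

section MatrixClasses

variable {F : Type*} [Field F] [CharP F 2] [Fintype F] {ι : Type} [Fintype ι] [DecidableEq ι]
  {Q : QuadraticForm F (ι → F)} {m : ℕ} (hQ : (polarBilin Q).Nondegenerate)
  (hι : Fintype.card ι = 2 * m)

omit [CharP F 2] [Fintype F] in
theorem orderOf_omap (a : ↥(Cfsg.isometryGroup F ⇑Q)) :
    orderOf a = 2 ↔ a ^ 2 = 1 ∧ 0 < Module.finrank F (LinearMap.range (omap a)) := by
  haveI : Fact (Nat.Prime 2) := ⟨Nat.prime_two⟩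
  rw [orderOf_eq_prime_iff, and_congr_right_iff]
  intro _
  rw [Nat.pos_iff_ne_zero, not_iff_not, Submodule.finrank_eq_zero, LinearMap.range_eq_bot]
  refine ⟨fun h => LinearMap.ext fun v => ?_, fun h => eq_one_of_omap_eq_zero fun v => by rw [h]; rfl⟩
  subst h
  simp [omap]

include hQ hι in
theorem exists_orth_invol {s : ℕ} (hs : s ≤ m) (hs0 : 0 < s) (α : Prop) (hα : α → Even s)
    (hok : 0 < signSum ⇑Q ∨ ¬ (s = m ∧ α)) :
    ∃ a : ↥(Cfsg.isometryGroup F ⇑Q), orderOf a = 2 ∧
      Module.finrank F (LinearMap.range (omap a)) = s ∧ (IsTypeA (polarBilin Q) (omap a) ↔ α) := by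
  obtain ⟨T, hT, hTs, hTa⟩ := exists_sqZero hQ (finrank_pi_eq hι) hs hs0 α hα
  obtain ⟨r, T', hT', hinv, hr⟩ := exists_symp_into_ortho hQ hT (finrank_pi_eq hι)
    (hok.imp_right fun h hh => h ⟨hTs ▸ hh.1, hTa.1 hh.2⟩)
  have hmem : ∀ v, Q (((LinearMap.id + T') : (ι → F) →ₗ[F] (ι → F)) v) = Q v := hinv
  obtain ⟨a, ha⟩ := (oEquiv Q).surjective (Quad.ofPreserves hQ _ hmem)
  have hTa' : omap a = T' := LinearMap.ext fun v => by
    have h1 := omap_spec a v
    rw [ha] at h1
    change v + T' v = v + omap a v at h1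
    exact (add_left_cancel h1).symm
  have hsq : a ^ 2 = 1 := (oEquiv Q).injective (Subtype.ext (LinearEquiv.ext fun v => by
    rw [pow_two, map_mul, map_one]
    show (oEquiv Q a : (ι → F) ≃ₗ[F] _) ((oEquiv Q a : (ι → F) ≃ₗ[F] _) v) = v
    rw [omap_spec, omap_spec, hTa', map_add, hT'.sq, add_zero, add_assoc, add_self_vec (F := F), add_zero]))
  have hrank : Module.finrank F (LinearMap.range (omap a)) = s := by
    rw [hTa', finrank_range_intertwined (r : (ι → F) ≃ₗ[F] (ι → F)) hr, hTs]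
  exact ⟨a, (orderOf_omap a).2 ⟨hsq, by omega⟩, hrank, by rw [hTa', ← isTypeA_of_conj hr, hTa]⟩

include hQ in
theorem isConj_iff_rank_typeA {a b : ↥(Cfsg.isometryGroup F ⇑Q)} (ha : a ^ 2 = 1) (hb : b ^ 2 = 1) :
    IsConj a b ↔ Module.finrank F (LinearMap.range (omap a)) = Module.finrank F (LinearMap.range (omap b)) ∧
      (IsTypeA (polarBilin Q) (omap a) ↔ IsTypeA (polarBilin Q) (omap b)) := by
  rw [← exists_conj_iff (isAlt_polarBilin Q) (sqZero_omap hQ ha) (sqZero_omap hQ hb), isConj_iff]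
  constructor
  · rintro ⟨c, hc⟩
    exact ⟨⟨_, fun u v => OQ.map_polar (oEquiv Q c) u v⟩, (omap_conj a b c).1 hc⟩
  · rintro ⟨g, hg⟩
    obtain ⟨k, hk⟩ := exists_ortho_conj hQ (sqZero_omap hQ ha) (omap_inv a) (omap_inv b) g hg
    obtain ⟨c, rfl⟩ := (oEquiv Q).surjective k
    exact ⟨c, (omap_conj a b c).2 hk⟩

include hQ hι in
theorem data_of_orderOf_two {g : ↥(Cfsg.isometryGroup F ⇑Q)} (hg : orderOf g = 2) :
    0 < Module.finrank F (LinearMap.range (omap g)) ∧
      Module.finrank F (LinearMap.range (omap g)) ≤ m ∧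
      (IsTypeA (polarBilin Q) (omap g) → Even (Module.finrank F (LinearMap.range (omap g)))) ∧
      (Module.finrank F (LinearMap.range (omap g)) = m → IsTypeA (polarBilin Q) (omap g) →
        ¬ signSum ⇑Q < 0) := by
  obtain ⟨hg2, hpos⟩ := (orderOf_omap g).1 hg
  have h := sqZero_omap hQ hg2
  refine ⟨hpos, finrank_range_le (finrank_pi_eq hι) h, fun ha => ?_, fun hr ha hneg => ?_⟩
  · obtain ⟨k, x, -, hk⟩ := exists_frame_typeA (isAlt_polarBilin Q) h ha
    exact ⟨k, by rw [hk, two_mul]⟩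
  · exact not_exceptional_of_neg hQ h (finrank_pi_eq hι) hneg
      ⟨hr, fun v => (apply_T (omap_inv g) v).trans (ha v)⟩

/-- The number of even ranks carrying a class with vanishing form. -/
def typeACount (ε : Bool) (m : ℕ) : ℕ := if ε then m / 2 else (m - 1) / 2

variable (ε : Bool) (hε : if ε then 0 < signSum ⇑Q else signSum ⇑Q < 0)

include hQ hι hε in
theorem exists_reps_A (j : Fin (typeACount ε m)) :
    ∃ a : ↥(Cfsg.isometryGroup F ⇑Q), orderOf a = 2 ∧
      Module.finrank F (LinearMap.range (omap a)) = 2 * (j : ℕ) + 2 ∧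
      IsTypeA (polarBilin Q) (omap a) := by
  have hj := j.2
  obtain ⟨a, h1, h2, h3⟩ := exists_orth_invol hQ hι (s := 2 * (j : ℕ) + 2)
    (by cases ε <;> simp [typeACount] at hj <;> omega) (by omega) True
    (fun _ => ⟨(j : ℕ) + 1, by omega⟩) (by
      cases ε
      · exact Or.inr fun h => by simp [typeACount] at hj; omega
      · exact Or.inl (by simpa using hε))
  exact ⟨a, h1, h2, h3.2 trivial⟩

include hQ hι hε in
theorem typeA_index {g : ↥(Cfsg.isometryGroup F ⇑Q)} (hg : orderOf g = 2)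
    (ha : IsTypeA (polarBilin Q) (omap g)) :
    ∃ j : Fin (typeACount ε m), Module.finrank F (LinearMap.range (omap g)) = 2 * (j : ℕ) + 2 := by
  obtain ⟨h1, h2, h3, h4⟩ := data_of_orderOf_two hQ hι hg
  obtain ⟨k, hk⟩ := h3 ha
  refine ⟨⟨k - 1, ?_⟩, show _ = 2 * (k - 1) + 2 by omega⟩
  cases ε
  · have hne : Module.finrank F (LinearMap.range (omap g)) ≠ m := fun e => h4 e ha (by simpa using hε)
    simp [typeACount]
    omega
  · simp [typeACount]
    omega

include hQ hι hε in
/-- The number of classes of involutions of `O(Q)`. -/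
theorem card_classes_O :
    Nat.card {C : ConjClasses ↥(Cfsg.isometryGroup F ⇑Q) //
      ∃ g : ↥(Cfsg.isometryGroup F ⇑Q), ConjClasses.mk g = C ∧ orderOf g = 2} =
      m + typeACount ε m := by
  choose repN hNo hNr hNa using fun i : Fin m =>
    exists_orth_invol hQ hι (s := (i : ℕ) + 1) i.2 (Nat.succ_pos _) False False.elim (Or.inr fun h => h.2)
  choose repA hAo hAr hAa using fun j => exists_reps_A hQ hι ε hε j
  let rep : Fin m ⊕ Fin (typeACount ε m) → ↥(Cfsg.isometryGroup F ⇑Q) := Sum.elim repN repA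
  have hord : ∀ p, orderOf (rep p) = 2 := by rintro (i | j) <;> simp [rep, hNo, hAo]
  rw [← Nat.card_congr (Equiv.ofBijective
    (fun p => (⟨ConjClasses.mk (rep p), rep p, rfl, hord p⟩ :
      {C : ConjClasses ↥(Cfsg.isometryGroup F ⇑Q) //
        ∃ g : ↥(Cfsg.isometryGroup F ⇑Q), ConjClasses.mk g = C ∧ orderOf g = 2})) ⟨?_, ?_⟩)]
  · simp
  · intro p p' hpp
    have hc := (isConj_iff_rank_typeA hQ ((orderOf_omap _).1 (hord p)).1 ((orderOf_omap _).1 (hord p')).1).1
      (ConjClasses.mk_eq_mk_iff_isConj.1 (congrArg Subtype.val hpp))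
    rcases p with i | j <;> rcases p' with i' | j'
    · have e : (i : ℕ) + 1 = (i' : ℕ) + 1 := (hNr i).symm.trans (hc.1.trans (hNr i'))
      exact congrArg Sum.inl (Fin.ext (by omega))
    · exact ((hNa i).1 (hc.2.2 (hAa j'))).elim
    · exact ((hNa i').1 (hc.2.1 (hAa j))).elim
    · have e : 2 * (j : ℕ) + 2 = 2 * (j' : ℕ) + 2 := (hAr j).symm.trans (hc.1.trans (hAr j'))
      exact congrArg Sum.inr (Fin.ext (by omega))
  · rintro ⟨C, g, rfl, hg⟩
    obtain ⟨hpos, hle, -, -⟩ := data_of_orderOf_two hQ hι hg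
    have hg2 := ((orderOf_omap g).1 hg).1
    by_cases ha : IsTypeA (polarBilin Q) (omap g)
    · obtain ⟨j, hj⟩ := typeA_index hQ hι ε hε hg ha
      exact ⟨Sum.inr j, Subtype.ext (ConjClasses.mk_eq_mk_iff_isConj.2 ((isConj_iff_rank_typeA hQ
        ((orderOf_omap _).1 (hord _)).1 hg2).2 ⟨(hAr j).trans hj.symm, iff_of_true (hAa j) ha⟩))⟩
    · refine ⟨Sum.inl ⟨Module.finrank F (LinearMap.range (omap g)) - 1, by omega⟩,
        Subtype.ext (ConjClasses.mk_eq_mk_iff_isConj.2 ((isConj_iff_rank_typeA hQ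
          ((orderOf_omap _).1 (hord _)).1 hg2).2 ⟨(hNr _).trans ?_, iff_of_false (fun h => (hNa _).1 h) ha⟩))⟩
      show _ - 1 + 1 = _
      omega

end MatrixClasses

end CfsgLib.Classical.CharTwo
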