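import Cfsg.Agent.Lib.Classical.Quad.StandardForms
import Cfsg.Agent.Lib.Classical.Symplectic.Order

/-!
# The sign of a quadratic form in characteristic two

`psi` is the character with kernel `{x ^ 2 + x}`; the sum of `psi ∘ Q` distinguishes the two types.
-/

set_option autoImplicit false

namespace CfsgLib.Classical.CharTwo

open QuadraticMap (polar polarBilin)
open CfsgLib.Classical.Quad

variable {F : Type*} [Field F] [CharP F 2]

/-- The elements `x ^ 2 + x`. -/
def asGroup (F : Type*) [Field F] [CharP F 2] : AddSubgroup F :=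
  (AddMonoidHom.mk' (fun x : F => x ^ 2 + x) fun a b => by
    rw [CharTwo.add_sq]; ring).range

theorem mem_asGroup {c : F} : c ∈ asGroup F ↔ ∃ x, x ^ 2 + x = c := Iff.rfl

variable [Finite F]

theorem index_asGroup : (asGroup F).index = 2 := by
  set f : F →+ F := AddMonoidHom.mk' (fun x : F => x ^ 2 + x) fun a b => by
    rw [CharTwo.add_sq]; ring with hf
  have hker : Nat.card f.ker = 2 := by
    have : (f.ker : Set F) = {0, 1} := by
      ext x
      show x ^ 2 + x = 0 ↔ x = 0 ∨ x = 1
      refine ⟨fun h => ?_, fun h => ?_⟩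
      · rcases mul_eq_zero.1 (show x * (x + 1) = 0 by linear_combination h) with h0 | h0
        · exact Or.inl h0
        · exact Or.inr (CharTwo.add_eq_zero.1 h0)
      · rcases h with rfl | rfl
        · simp
        · rw [one_pow]; exact CharTwo.add_self_eq_zero 1
    show Nat.card ↥(f.ker : Set F) = 2
    rw [this, Nat.card_coe_set_eq, Set.ncard_pair zero_ne_one]
  have h1 := f.ker.card_mul_index
  have h2 := f.range.card_mul_index
  rw [hker, AddSubgroup.index_ker] at h1
  show f.range.index = 2
  refine Nat.eq_of_mul_eq_mul_left (Nat.card_pos (α := f.range)) ?_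
  rw [h2, ← h1, mul_comm]

/-- The character with kernel `{x ^ 2 + x}`. -/
noncomputable def psi (c : F) : ℤ :=
  @ite _ (c ∈ asGroup F) (_root_.Classical.propDecidable _) 1 (-1)

omit [Finite F] in
theorem psi_eq_one_iff {c : F} : psi c = 1 ↔ ∃ x, x ^ 2 + x = c := by
  rw [← mem_asGroup, psi]
  split_ifs with h <;> simp [h]

omit [Finite F] in
theorem psi_cases (c : F) : psi c = 1 ∨ psi c = -1 := by
  rw [psi]
  split_ifs
  · exact Or.inl rfl
  · exact Or.inr rfl

omit [Finite F] in
theorem psi_ne_zero (c : F) : psi c ≠ 0 := by rcases psi_cases c with h | h <;> rw [h] <;> decide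

omit [Finite F] in
theorem psi_zero : psi (0 : F) = 1 := psi_eq_one_iff.2 ⟨0, by simp⟩

theorem psi_add (a b : F) : psi (a + b) = psi a * psi b := by
  have h := AddSubgroup.add_mem_iff_of_index_two (index_asGroup (F := F)) (a := a) (b := b)
  simp only [psi]
  split_ifs <;> simp_all

theorem psi_sq (a : F) : psi (a ^ 2) = psi a := by
  rw [show a ^ 2 = (a ^ 2 + a) + a by rw [add_assoc, CharTwo.add_self_eq_zero, add_zero],
    psi_add, psi_eq_one_iff.2 ⟨a, rfl⟩, one_mul]

theorem exists_psi_neg : ∃ c : F, psi c = -1 := by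
  by_contra h
  push Not at h
  have hall : asGroup F = ⊤ := eq_top_iff.2 fun c _ =>
    mem_asGroup.2 (psi_eq_one_iff.1 ((psi_cases c).resolve_right (h c)))
  exact absurd (index_asGroup (F := F)) (by rw [hall, AddSubgroup.index_top]; decide)

/-- An additive function takes both signs equally often. -/
theorem sum_psi_eq_zero {A : Type*} [AddGroup A] [Fintype A] (f : A → F)
    (hf : ∀ a b, f (a + b) = f a + f b) {a₀ : A} (h : psi (f a₀) = -1) : ∑ a, psi (f a) = 0 := by
  have e := Equiv.sum_comp (Equiv.addRight a₀) (fun a => psi (f a))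
  simp only [Equiv.coe_addRight, hf, psi_add, h, ← Finset.sum_mul] at e
  linarith

section Form

variable {V : Type*} [AddCommGroup V] [Module F V] [Fintype V] {Q : QuadraticForm F V}

open scoped _root_.Classical in
theorem sum_psi_polar (hQ : (polarBilin Q).Nondegenerate) (w : V) :
    ∑ v, psi (polar Q w v) = if w = 0 then (Fintype.card V : ℤ) else 0 := by
  split_ifs with h
  · simp [h, psi_zero]
  · obtain ⟨v, hv⟩ : ∃ v, polar Q w v ≠ 0 := by
      by_contra hcon
      push Not at hcon
      exact h (hQ.1 w hcon)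
    obtain ⟨c, hc⟩ := exists_psi_neg (F := F)
    refine sum_psi_eq_zero (fun a => polar Q w a) (fun a b => polar_add_right' w a b)
      (a₀ := (c / polar Q w v) • v) ?_
    rw [polar_smul_right', div_mul_cancel₀ _ hv, hc]

/-- The signed count of a quadratic form. -/
noncomputable def signSum (Q : V → F) : ℤ := ∑ v, psi (Q v)

theorem signSum_sq (hQ : (polarBilin Q).Nondegenerate) : signSum Q * signSum Q = Fintype.card V := by
  classical
  unfold signSum
  rw [Finset.sum_mul]
  simp only [Finset.mul_sum]
  have e : ∀ v, ∑ u, psi (Q v) * psi (Q u) = ∑ w, psi (Q w) * psi (polar Q w v) := by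
    intro v
    rw [← Equiv.sum_comp (Equiv.addRight v) (fun u => psi (Q v) * psi (Q u))]
    refine Finset.sum_congr rfl fun w _ => ?_
    show psi (Q v) * psi (Q (w + v)) = _
    rw [apply_add, psi_add, psi_add]
    rcases psi_cases (Q v) with h | h <;> rw [h] <;> ring
  rw [Finset.sum_congr rfl fun v _ => e v, Finset.sum_comm]
  simp only [← Finset.mul_sum, sum_psi_polar hQ, mul_ite, mul_zero]
  rw [Finset.sum_ite_eq' Finset.univ (0 : V), if_pos (Finset.mem_univ _), QuadraticMap.map_zero,
    psi_zero, one_mul]

theorem signSum_ne_zero (hQ : (polarBilin Q).Nondegenerate) : signSum Q ≠ 0 := fun h => by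
  have := signSum_sq hQ
  rw [h, zero_mul] at this
  exact absurd this (by exact_mod_cast (Fintype.card_ne_zero (α := V)).symm)

theorem signSum_shift (Q : QuadraticForm F V) (z : V) :
    signSum (fun v => Q v + polar Q v z ^ 2) = psi (Q z) * signSum Q := by
  unfold signSum
  rw [← Equiv.sum_comp (Equiv.addRight z) (fun v => psi (Q v)), Finset.mul_sum]
  refine Finset.sum_congr rfl fun v _ => ?_
  show psi (Q v + polar Q v z ^ 2) = psi (Q z) * psi (Q (v + z))
  rw [apply_add, psi_add, psi_add, psi_add, psi_sq]
  rcases psi_cases (Q z) with h | h <;> rw [h] <;> ring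

theorem signSum_comp_equiv (Q : V → F) (e : V ≃ V) : signSum (fun v => Q (e v)) = signSum Q :=
  Equiv.sum_comp e fun v => psi (Q v)

end Form

end CfsgLib.Classical.CharTwo
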