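import Cfsg.Agent.Lib.Classical.CharTwo.SpInvolution
import Cfsg.Agent.Lib.Classical.CharTwo.QuadSigns
import Cfsg.Agent.Lib.Known.OmegaCriterion

/-!
# Involutions of orthogonal groups in characteristic two

The forms with a given polar form which are invariant under `1 + T` are `Q + B(·, z)²` with
`T z = 0`; a transvection commuting with `T` carries `Q` to this form exactly when `psi (Q z) = 1`.
-/

set_option autoImplicit false

namespace CfsgLib.Classical.CharTwo

open QuadraticMap (polar polarBilin)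
open LinearMap (BilinForm)
open CfsgLib.Classical.Quad CfsgLib.Known.OmegaCriterion

variable {F : Type*} [Field F] [CharP F 2] {V : Type*} [AddCommGroup V] [Module F V]
  {Q : QuadraticForm F V} {T T' : V →ₗ[F] V}

theorem isAlt_polarBilin (Q : QuadraticForm F V) : BilinForm.IsAlt (polarBilin Q) := fun v => by
  show polar Q v v = 0
  rw [polar_self', CharTwo.two_eq_zero, zero_mul]

theorem apply_shift_vec (Q : QuadraticForm F V) (c : F) (v z : V) :
    Q (v + (c * polar Q v z) • z) = Q v + (c ^ 2 * Q z + c) * polar Q v z ^ 2 := by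
  rw [apply_add, apply_smul, polar_smul_right']
  ring

theorem apply_T (hinv : ∀ v, Q (v + T v) = Q v) (v : V) : Q (T v) = polar Q v (T v) := by
  have h := hinv v
  rw [apply_add, add_assoc, add_eq_left] at h
  exact CharTwo.add_eq_zero.1 h

variable [FiniteDimensional F V] (hQ : (polarBilin Q).Nondegenerate)
  (h : SqZero (polarBilin Q) T)

include hQ in
theorem eq_of_polar_sq {z z' : V} (e : ∀ v, polar Q v z ^ 2 = polar Q v z' ^ 2) : z = z' := by
  refine sub_eq_zero.1 (hQ.2 _ fun v => ?_)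
  show polar Q v (z - z') = 0
  rw [QuadraticMap.polar_sub_right, CharTwo.sq_injective (e v), sub_self]

include h in
omit [FiniteDimensional F V] in
theorem invariant_iff (hinv : ∀ v, Q (v + T v) = Q v) (z : V) :
    (∀ v, Q (v + T v) + polar Q (v + T v) z ^ 2 = Q v + polar Q v z ^ 2) ↔ T z = 0 := by
  have key : ∀ v, polar Q (T v) z = polar Q v (T z) := fun v => h.adj v z
  constructor
  · intro hz
    refine h.eq_zero_of_right fun v => ?_
    have := hz v
    rw [hinv, add_right_inj, polar_add_left', CharTwo.add_sq, add_eq_left, key] at this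
    exact pow_eq_zero_iff two_ne_zero |>.1 this
  · intro hz v
    rw [hinv, polar_add_left', key, hz, QuadraticMap.polar_zero_right, add_zero]

include hQ in
/-- A form with the same polar form is a shift by the square of a linear form. -/
theorem exists_shift_form [Finite F] (f : V → F) (hadd : ∀ u v, f (u + v) = f u + f v)
    (hsmul : ∀ (c : F) v, f (c • v) = c ^ 2 * f v) : ∃ z, ∀ v, f v = polar Q v z ^ 2 := by
  choose L hL using fun v => FiniteField.isSquare_of_char_two (ringChar.eq F 2) (f v)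
  let L' : V →ₗ[F] F :=
    { toFun := L
      map_add' := fun u v => CharTwo.sq_injective (by
        show L (u + v) ^ 2 = (L u + L v) ^ 2
        rw [CharTwo.add_sq, sq, sq, sq, ← hL, ← hL, ← hL, hadd])
      map_smul' := fun c v => CharTwo.sq_injective (by
        show L (c • v) ^ 2 = (c * L v) ^ 2
        rw [mul_pow, sq, sq (L v), ← hL, ← hL, hsmul]) }
  refine ⟨(LinearMap.BilinForm.toDual (polarBilin Q) hQ).symm L', fun v => ?_⟩
  have e : polar Q ((LinearMap.BilinForm.toDual (polarBilin Q) hQ).symm L') v = L v :=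
    LinearMap.BilinForm.apply_toDual_symm_apply (B := polarBilin Q) (hB := hQ) L' v
  rw [QuadraticMap.polar_comm, e, sq, ← hL]

variable [Fintype V] [Finite F]

include hQ h in
/-- An isometry of the polar form intertwining two involutions shifts `Q` by a vector of sign `1`. -/
theorem exists_shift_of_conj (hinv : ∀ v, Q (v + T v) = Q v) (hinv' : ∀ v, Q (v + T' v) = Q v)
    (g : Symp.Sp (polarBilin Q)) (hg : ∀ v, (g : V ≃ₗ[F] V) (T v) = T' ((g : V ≃ₗ[F] V) v)) :
    ∃ z, T z = 0 ∧ psi (Q z) = 1 ∧ ∀ v, Q ((g : V ≃ₗ[F] V) v) = Q v + polar Q v z ^ 2 := by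
  have hgp : ∀ u v, polar Q ((g : V ≃ₗ[F] V) u) ((g : V ≃ₗ[F] V) v) = polar Q u v := g.2
  obtain ⟨z, hz⟩ := exists_shift_form hQ (fun v => Q ((g : V ≃ₗ[F] V) v) + Q v)
    (fun u v => by
      rw [map_add, apply_add, apply_add (Q := Q) u, hgp]
      linear_combination (polar Q u v) * (CharTwo.two_eq_zero (R := F)))
    (fun c v => by rw [map_smul, apply_smul, apply_smul]; ring)
  have hz' : ∀ v, Q ((g : V ≃ₗ[F] V) v) = Q v + polar Q v z ^ 2 := fun v => by
    rw [← hz]
    linear_combination -(Q v) * (CharTwo.two_eq_zero (R := F))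
  refine ⟨z, (invariant_iff h hinv z).1 fun v => ?_, ?_, hz'⟩
  · rw [← hz', ← hz', map_add, hg, hinv']
  · have e := signSum_shift Q z
    rw [← funext hz', show signSum (fun v => Q ((g : V ≃ₗ[F] V) v)) = signSum ⇑Q from
      signSum_comp_equiv (⇑Q) (g : V ≃ₗ[F] V).toEquiv] at e
    refine ((psi_cases (Q z)).resolve_right fun h' => ?_)
    rw [h'] at e
    exact signSum_ne_zero hQ (by linarith)

include h in
omit [FiniteDimensional F V] [Fintype V] [Finite F] in
/-- A transvection commuting with `T` realising a shift of sign `1`. -/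
theorem exists_transvection {z : V} (hTz : T z = 0) (hz : psi (Q z) = 1) :
    ∃ r : Symp.Sp (polarBilin Q), (∀ v, (r : V ≃ₗ[F] V) (T v) = T ((r : V ≃ₗ[F] V) v)) ∧
      ∀ v, Q ((r : V ≃ₗ[F] V) v) = Q v + polar Q v z ^ 2 := by
  obtain ⟨x, hx⟩ := psi_eq_one_iff.1 hz
  obtain ⟨c, hc⟩ : ∃ c : F, c ^ 2 * Q z + c = 1 := by
    by_cases h0 : Q z = 0
    · exact ⟨1, by rw [h0]; ring⟩
    · refine ⟨x / Q z, ?_⟩
      field_simp
      linear_combination hx
  refine ⟨Symp.tr (isAlt_polarBilin Q) z c, fun v => ?_, fun v => ?_⟩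
  · rw [Symp.tr_apply, Symp.tr_apply, map_add, map_smul, hTz, smul_zero, add_zero,
      h.adj, hTz, map_zero, mul_zero, zero_smul, add_zero]
  · rw [Symp.tr_apply]
    show Q (v + (c * polar Q v z) • z) = _
    rw [apply_shift_vec, hc, one_mul]

include hQ h in
/-- Involutions of `O(Q)` conjugate in the symplectic group are conjugate in `O(Q)`. -/
theorem exists_ortho_conj (hinv : ∀ v, Q (v + T v) = Q v) (hinv' : ∀ v, Q (v + T' v) = Q v)
    (g : Symp.Sp (polarBilin Q)) (hg : ∀ v, (g : V ≃ₗ[F] V) (T v) = T' ((g : V ≃ₗ[F] V) v)) :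
    ∃ k : OQ Q, ∀ v, (k : V ≃ₗ[F] V) (T v) = T' ((k : V ≃ₗ[F] V) v) := by
  obtain ⟨z, hTz, hz, hgz⟩ := exists_shift_of_conj hQ h hinv hinv' g hg
  obtain ⟨r, hr, hrz⟩ := exists_transvection h hTz hz
  refine ⟨⟨(r : V ≃ₗ[F] V).symm.trans (g : V ≃ₗ[F] V), mem_OQ.2 fun v => ?_⟩, fun v => ?_⟩
  · show Q ((g : V ≃ₗ[F] V) ((r : V ≃ₗ[F] V).symm v)) = Q v
    rw [hgz, ← hrz, LinearEquiv.apply_symm_apply]
  · show (g : V ≃ₗ[F] V) ((r : V ≃ₗ[F] V).symm (T v)) = T' ((g : V ≃ₗ[F] V) ((r : V ≃ₗ[F] V).symm v))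
    rw [← hg]
    congr 1
    rw [LinearEquiv.symm_apply_eq, hr, LinearEquiv.apply_symm_apply]

/-- The isometries of `Q` commuting with `T`. -/
def centrO (Q : QuadraticForm F V) (T : V →ₗ[F] V) : Subgroup (OQ Q) where
  carrier := {g | ∀ v, (g : V ≃ₗ[F] V) (T v) = T ((g : V ≃ₗ[F] V) v)}
  mul_mem' {a b} ha hb := fun v => by
    simp only [Subgroup.coe_mul, LinearEquiv.mul_apply]
    rw [hb, ha]
  one_mem' := fun _ => rfl
  inv_mem' {a} ha := fun v => by
    show (a : V ≃ₗ[F] V).symm (T v) = T ((a : V ≃ₗ[F] V).symm v)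
    rw [LinearEquiv.symm_apply_eq, ha, LinearEquiv.apply_symm_apply]

include hQ h in
theorem card_centr_eq_mul (hinv : ∀ v, Q (v + T v) = Q v) :
    Nat.card (centr (polarBilin Q) T) =
      Nat.card {z : V // T z = 0 ∧ psi (Q z) = 1} * Nat.card (centrO Q T) := by
  choose r hr hrz using fun z : {z : V // T z = 0 ∧ psi (Q z) = 1} =>
    exists_transvection h z.2.1 z.2.2
  have hiso : ∀ k : centrO Q T, ((k : OQ Q) : V ≃ₗ[F] V) ∈ Symp.Sp (polarBilin Q) := fun k u v =>
    OQ.map_polar (k : OQ Q) u v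
  rw [← Nat.card_prod]
  refine (Nat.card_congr (Equiv.ofBijective
    (fun p : {z : V // T z = 0 ∧ psi (Q z) = 1} × centrO Q T =>
      (⟨(⟨_, hiso p.2⟩ : Symp.Sp (polarBilin Q)) * r p.1,
        mul_mem (mem_centr.2 p.2.2) (mem_centr.2 (hr p.1))⟩ : centr (polarBilin Q) T))
    ⟨fun p p' hpp => ?_, fun a => ?_⟩)).symm
  · have hv : ∀ v, ((p.2 : OQ Q) : V ≃ₗ[F] V) ((r p.1 : V ≃ₗ[F] V) v) =
        ((p'.2 : OQ Q) : V ≃ₗ[F] V) ((r p'.1 : V ≃ₗ[F] V) v) :=
      fun v => LinearEquiv.congr_fun (congrArg Subtype.val (congrArg Subtype.val hpp)) v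
    have h1 : p.1 = p'.1 := Subtype.ext (eq_of_polar_sq hQ fun v => by
      have e := congrArg Q (hv v)
      rwa [OQ.map_apply, OQ.map_apply, hrz, hrz, add_right_inj] at e)
    refine Prod.ext h1 (Subtype.ext (Subtype.ext (LinearEquiv.ext fun v => ?_)))
    have := hv ((r p.1 : V ≃ₗ[F] V).symm v)
    rwa [← h1, LinearEquiv.apply_symm_apply] at this
  · obtain ⟨z, hTz, hz, hgz⟩ :=
      exists_shift_of_conj hQ h hinv hinv a.1 (fun v => mem_centr.1 a.2 v)
    set s := r ⟨z, hTz, hz⟩
    have hk : (s : V ≃ₗ[F] V).symm.trans ((a.1 : Symp.Sp (polarBilin Q)) : V ≃ₗ[F] V) ∈ OQ Q :=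
      mem_OQ.2 fun v => by
        show Q ((a.1 : V ≃ₗ[F] V) ((s : V ≃ₗ[F] V).symm v)) = Q v
        rw [hgz, ← hrz ⟨z, hTz, hz⟩, LinearEquiv.apply_symm_apply]
    have hkT : (⟨_, hk⟩ : OQ Q) ∈ centrO Q T := fun v => by
      show (a.1 : V ≃ₗ[F] V) ((s : V ≃ₗ[F] V).symm (T v)) =
        T ((a.1 : V ≃ₗ[F] V) ((s : V ≃ₗ[F] V).symm v))
      rw [← mem_centr.1 a.2]
      congr 1
      rw [LinearEquiv.symm_apply_eq, hr, LinearEquiv.apply_symm_apply]
    refine ⟨(⟨z, hTz, hz⟩, ⟨_, hkT⟩), Subtype.ext (Subtype.ext (LinearEquiv.ext fun v => ?_))⟩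
    show (a.1 : V ≃ₗ[F] V) ((s : V ≃ₗ[F] V).symm ((s : V ≃ₗ[F] V) v)) = _
    rw [LinearEquiv.symm_apply_apply]

omit [Finite F] in
theorem two_mul_card_signs {K : Type*} [Fintype K] (f : K → F) :
    2 * (Nat.card {x : K // psi (f x) = 1} : ℤ) = Fintype.card K + ∑ x, psi (f x) := by
  classical
  rw [Nat.card_eq_fintype_card, Fintype.card_subtype]
  have e : ∀ x, psi (f x) + 1 = if psi (f x) = 1 then 2 else 0 := fun x => by
    rcases psi_cases (f x) with h | h <;> rw [h] <;> decide
  calc 2 * ((Finset.univ.filter fun x => psi (f x) = 1).card : ℤ)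
      = ∑ x, (psi (f x) + 1) := by
        rw [Finset.sum_congr rfl fun x _ => e x, Finset.sum_ite, Finset.sum_const_zero, add_zero,
          Finset.sum_const, nsmul_eq_mul, mul_comm]
    _ = _ := by
        rw [Finset.sum_add_distrib, Finset.sum_const, Finset.card_univ, nsmul_one, add_comm]

open scoped _root_.Classical in
/-- The number of shifts of sign one. -/
theorem two_mul_card_shifts :
    2 * (Nat.card {z : V // T z = 0 ∧ psi (Q z) = 1} : ℤ) =
      Fintype.card (LinearMap.ker T) + signSum (fun z : LinearMap.ker T => Q (z : V)) := by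
  rw [← Nat.card_congr (Equiv.subtypeSubtypeEquivSubtypeInter (fun z : V => T z = 0)
    fun z => psi (Q z) = 1)]
  exact two_mul_card_signs (fun z : LinearMap.ker T => Q (z : V))

include hQ h in
open scoped _root_.Classical in
omit [FiniteDimensional F V] in
theorem signSum_ker_typeA (halt : ∀ v, Q (T v) = 0) :
    signSum (fun z : LinearMap.ker T => Q (z : V)) = signSum Q := by
  set W := LinearMap.range T
  have hW : ∀ w ∈ W, Q w = 0 := by rintro _ ⟨v, rfl⟩; exact halt v
  have key : ∀ v, ∑ w : W, psi (polar Q v (w : V)) = if T v = 0 then (Fintype.card W : ℤ) else 0 := by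
    intro v
    split_ifs with hv
    · have : ∀ w : W, polar Q v (w : V) = 0 := fun w => by
        obtain ⟨u, hu⟩ := w.2
        rw [← hu]
        exact ((h.adj v u).symm).trans (by rw [hv, map_zero, LinearMap.zero_apply])
      simp [this, psi_zero]
    · obtain ⟨u, hu⟩ : ∃ u, polar Q v (T u) ≠ 0 := by
        by_contra hcon
        push Not at hcon
        exact hv (h.nondeg _ fun u => (h.adj v u).trans (hcon u))
      obtain ⟨c, hc⟩ := exists_psi_neg (F := F)
      refine sum_psi_eq_zero (fun w : W => polar Q v (w : V)) (fun a b => polar_add_right' v _ _)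
        (a₀ := (c / polar Q v (T u)) • ⟨T u, LinearMap.mem_range_self T u⟩) ?_
      show psi (polar Q v ((c / polar Q v (T u)) • T u)) = -1
      rw [polar_smul_right', div_mul_cancel₀ _ hu, hc]
  have e : ∀ w : W, ∑ v, psi (Q v) = ∑ v, psi (Q v) * psi (polar Q v (w : V)) := by
    intro w
    rw [← Equiv.sum_comp (Equiv.addRight (w : V)) (fun v => psi (Q v))]
    refine Finset.sum_congr rfl fun v _ => ?_
    show psi (Q (v + w)) = _
    rw [apply_add, hW _ w.2, add_zero, psi_add]
  have hsum : (Fintype.card W : ℤ) * ∑ v, psi (Q v) =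
      (Fintype.card W : ℤ) * ∑ z : LinearMap.ker T, psi (Q (z : V)) := by
    calc (Fintype.card W : ℤ) * ∑ v, psi (Q v)
        = ∑ w : W, ∑ v, psi (Q v) * psi (polar Q v (w : V)) := by
          rw [← Finset.sum_congr rfl fun w _ => e w, Finset.sum_const, Finset.card_univ, nsmul_eq_mul]
      _ = ∑ v, psi (Q v) * if T v = 0 then (Fintype.card W : ℤ) else 0 := by
          rw [Finset.sum_comm]
          exact Finset.sum_congr rfl fun v _ => by rw [← Finset.mul_sum, key]
      _ = ∑ v, if T v = 0 then psi (Q v) * (Fintype.card W : ℤ) else 0 :=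
          Finset.sum_congr rfl fun v _ => by split_ifs <;> simp
      _ = (Fintype.card W : ℤ) * ∑ z : LinearMap.ker T, psi (Q (z : V)) := by
          rw [← Finset.sum_filter, Finset.mul_sum, Finset.sum_subtype (p := fun v => T v = 0) _
            (fun v => by simp) (fun v => psi (Q v) * (Fintype.card W : ℤ))]
          exact Finset.sum_congr rfl fun z _ => mul_comm _ _
  exact (mul_left_cancel₀ (by exact_mod_cast Fintype.card_ne_zero) hsum).symm

include h in
open scoped _root_.Classical in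
omit [FiniteDimensional F V] in
theorem signSum_ker_not_typeA {v₀ : V} (hv₀ : Q (T v₀) ≠ 0) :
    signSum (fun z : LinearMap.ker T => Q (z : V)) = 0 := by
  obtain ⟨c, hc⟩ := exists_psi_neg (F := F)
  obtain ⟨d, hd⟩ := FiniteField.isSquare_of_char_two (ringChar.eq F 2) (c / Q (T v₀))
  set w : LinearMap.ker T := ⟨d • T v₀, LinearMap.mem_ker.2 (by rw [map_smul, h.sq, smul_zero])⟩
  have hw : psi (Q (w : V)) = -1 := by
    show psi (Q (d • T v₀)) = -1
    rw [apply_smul, ← hd, div_mul_cancel₀ _ hv₀, hc]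
  unfold signSum
  have e := Equiv.sum_comp (Equiv.addRight w) (fun z : LinearMap.ker T => psi (Q (z : V)))
  have hterm : ∀ z : LinearMap.ker T, psi (Q ((z + w : LinearMap.ker T) : V)) = -psi (Q (z : V)) := by
    intro z
    have hp : polar Q (z : V) (w : V) = 0 := by
      show polar Q (z : V) (d • T v₀) = 0
      have : polar Q (z : V) (T v₀) = 0 :=
        ((h.adj (z : V) v₀).symm).trans (by rw [LinearMap.mem_ker.1 z.2, map_zero, LinearMap.zero_apply])
      rw [polar_smul_right', this, mul_zero]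
    rw [Submodule.coe_add, apply_add, hp, add_zero, psi_add, hw, mul_neg_one]
  simp only [Equiv.coe_addRight, hterm, Finset.sum_neg_distrib] at e
  linarith

end CfsgLib.Classical.CharTwo
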