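import Cfsg.Agent.Lib.Classical.CharTwo.OrthSplit
import Cfsg.Agent.Lib.Classical.CharTwo.OmegaParity

/-!
# Involutions of matrix orthogonal groups in characteristic two
-/

set_option autoImplicit false

namespace CfsgLib.Classical.CharTwo

open scoped Matrix
open QuadraticMap (polar polarBilin)
open CfsgLib.Classical.Quad CfsgLib.Known.OmegaCriterion

variable {F : Type*} [Field F] {ι : Type} [Fintype ι] [DecidableEq ι] {Q : QuadraticForm F (ι → F)}

/-- The map `a - 1`. -/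
noncomputable def omap (a : ↥(Cfsg.isometryGroup F ⇑Q)) : (ι → F) →ₗ[F] (ι → F) :=
  Matrix.mulVecLin (((a : Matrix.GeneralLinearGroup ι F) : Matrix ι ι F) - 1)

theorem omap_spec (a : ↥(Cfsg.isometryGroup F ⇑Q)) (v : ι → F) :
    (oEquiv Q a : (ι → F) ≃ₗ[F] (ι → F)) v = v + omap a v := by
  rw [oEquiv_apply, omap, Matrix.mulVecLin_apply, Matrix.sub_mulVec, Matrix.one_mulVec, add_sub_cancel]

theorem finrank_range_omap (a : ↥(Cfsg.isometryGroup F ⇑Q)) :
    Module.finrank F (LinearMap.range (omap a)) =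
      (((a : Matrix.GeneralLinearGroup ι F) : Matrix ι ι F) - 1).rank := rfl

theorem omap_inv (a : ↥(Cfsg.isometryGroup F ⇑Q)) (v : ι → F) : Q (v + omap a v) = Q v := by
  rw [← omap_spec]
  exact OQ.map_apply _ v

theorem omap_conj (a b c : ↥(Cfsg.isometryGroup F ⇑Q)) :
    c * a * c⁻¹ = b ↔ ∀ v, (oEquiv Q c : (ι → F) ≃ₗ[F] (ι → F)) (omap a v) =
      omap b ((oEquiv Q c : (ι → F) ≃ₗ[F] (ι → F)) v) := by
  rw [mul_inv_eq_iff_eq_mul, ← commute_iff_commute _ (omap_spec a) (omap_spec b),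
    ← (oEquiv Q).injective.eq_iff, map_mul, map_mul, Subtype.ext_iff, LinearEquiv.ext_iff]
  rfl

theorem eq_one_of_omap_eq_zero {a : ↥(Cfsg.isometryGroup F ⇑Q)} (h : ∀ v, omap a v = 0) : a = 1 :=
  (oEquiv Q).injective (Subtype.ext (LinearEquiv.ext fun v => by
    rw [omap_spec, h, add_zero, map_one]
    rfl))

variable [CharP F 2] (hQ : (polarBilin Q).Nondegenerate)

include hQ in
theorem sqZero_omap {a : ↥(Cfsg.isometryGroup F ⇑Q)} (ha : a ^ 2 = 1) :
    SqZero (polarBilin Q) (omap a) := by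
  refine sqZero_of_invol (σ := RingHom.id F) (B := polarBilin Q) (T := omap a) ?_ (fun u hu => hQ.1 u hu)
    (fun v => v + omap a v) (fun v => rfl) ?_ ?_
  · intro u v
    exact QuadraticMap.polar_comm _ u v
  · intro u v
    rw [← omap_spec, ← omap_spec]
    exact OQ.map_polar (oEquiv Q a) u v
  · intro v
    show v + omap a v + omap a (v + omap a v) = v
    rw [← omap_spec, ← omap_spec, oEquiv_apply, oEquiv_apply, Matrix.mulVec_mulVec, ← Units.val_mul,
      ← Subgroup.coe_mul, ← pow_two, ha]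
    simp

variable [Fintype F]

include hQ in
/-- Conjugacy in `O(Q)` is conjugacy under the group of the polar form. -/
theorem isConj_iff_preserving {a b : ↥(Cfsg.isometryGroup F ⇑Q)} (ha : a ^ 2 = 1) (_hb : b ^ 2 = 1) :
    IsConj a b ↔ ∃ g ∈ Cfsg.preserving (Units.coeHom (Matrix ι ι F))
        (fun u v => Q (u + v) - Q u - Q v),
      g * (a : Matrix.GeneralLinearGroup ι F) * g⁻¹ = (b : Matrix.GeneralLinearGroup ι F) := by
  constructor
  · intro h
    obtain ⟨c, hc⟩ := isConj_iff.1 h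
    refine ⟨c, fun u v => ?_, by rw [← hc]; rfl⟩
    show Q (_ *ᵥ u + _ *ᵥ v) - Q (_ *ᵥ u) - Q (_ *ᵥ v) = _
    rw [← Matrix.mulVec_add]
    simp only [Units.coeHom_apply, ← oEquiv_apply Q c, OQ.map_apply]
  · rintro ⟨g, hg, hgab⟩
    have hmul : ((g : Matrix ι ι F)) * ((a : Matrix.GeneralLinearGroup ι F) : Matrix ι ι F) =
        ((b : Matrix.GeneralLinearGroup ι F) : Matrix ι ι F) * (g : Matrix ι ι F) := by
      rw [← Units.val_mul, ← Units.val_mul, ← mul_inv_eq_iff_eq_mul.1 hgab]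
    let e : (ι → F) ≃ₗ[F] (ι → F) := Matrix.toLin'OfInv g.inv_val g.val_inv
    have he : ∀ v, e v = (g : Matrix ι ι F) *ᵥ v := fun v => rfl
    have hep : e ∈ Symp.Sp (polarBilin Q) := fun u v => by
      show polar Q (e u) (e v) = polar Q u v
      rw [he, he]
      exact hg u v
    obtain ⟨k, hk⟩ := exists_ortho_conj hQ (sqZero_omap hQ ha) (omap_inv a) (T' := omap b) (omap_inv b)
      ⟨e, hep⟩ (fun v => by
        show e (omap a v) = omap b (e v)
        rw [he, he, omap, omap, Matrix.mulVecLin_apply, Matrix.mulVecLin_apply, Matrix.mulVec_mulVec,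
          Matrix.mulVec_mulVec, mul_sub, sub_mul, mul_one, one_mul, hmul])
    obtain ⟨c, rfl⟩ := (oEquiv Q).surjective k
    exact isConj_iff.2 ⟨c, (omap_conj a b c).2 hk⟩

include hQ in
theorem mem_Omega_iff_par (hex : (∃ c : F, c ≠ 0 ∧ c ≠ 1) ∨ Fintype.card ι ≠ 4)
    (g : ↥(Cfsg.isometryGroup F ⇑Q)) : g ∈ Cfsg.Omega F ⇑Q ↔ par (oEquiv Q g) = 0 := by
  rw [mem_Omega_iff hQ hex]
  exact and_iff_left (spinor_of_two_eq_zero CharTwo.two_eq_zero _)

variable {m : ℕ} (hι : Fintype.card ι = 2 * m)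

include hι in
omit [DecidableEq ι] [CharP F 2] [Fintype F] in
theorem finrank_pi_eq : Module.finrank F (ι → F) = 2 * m := by rw [Module.finrank_pi, hι]

include hQ hι in
theorem exists_omega_conj (hex : (∃ c : F, c ≠ 0 ∧ c ≠ 1) ∨ Fintype.card ι ≠ 4)
    {a b : ↥(Cfsg.isometryGroup F ⇑Q)} (ha : a ^ 2 = 1) (hconj : IsConj a b)
    (hne : ¬ ((((a : Matrix.GeneralLinearGroup ι F) : Matrix ι ι F) - 1).rank = m ∧
      ∀ v, Q (omap a v) = 0)) :
    ∃ g ∈ Cfsg.Omega F ⇑Q, g * a * g⁻¹ = b := by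
  obtain ⟨c, hc⟩ := isConj_iff.1 hconj
  obtain ⟨k, hk, hp⟩ := exists_conj_par_zero hQ (reflGroup_pi_eq_top hQ hex) (sqZero_omap hQ ha)
    (finrank_pi_eq hι) hne (oEquiv Q c) ((omap_conj a b c).1 hc)
  obtain ⟨g, rfl⟩ := (oEquiv Q).surjective k
  exact ⟨g, (mem_Omega_iff_par hQ hex g).2 hp, (omap_conj a b g).2 hk⟩

include hQ hι in
theorem omega_conj_iff_even (hex : (∃ c : F, c ≠ 0 ∧ c ≠ 1) ∨ Fintype.card ι ≠ 4)
    {a b : ↥(Cfsg.isometryGroup F ⇑Q)} (ha : a ^ 2 = 1) (hconj : IsConj a b)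
    (hr : (((a : Matrix.GeneralLinearGroup ι F) : Matrix ι ι F) - 1).rank = m)
    (halt : ∀ v, Q (omap a v) = 0) :
    (∃ g ∈ Cfsg.Omega F ⇑Q, g * a * g⁻¹ = b) ↔
      Even (Module.finrank F ↥(LinearMap.range (omap a) ⊓ LinearMap.range (omap b))) := by
  rw [← ZMod.natCast_eq_zero_iff_even]
  have key : ∀ g : ↥(Cfsg.isometryGroup F ⇑Q), g * a * g⁻¹ = b → par (oEquiv Q g) =
      (Module.finrank F ↥(LinearMap.range (omap a) ⊓ LinearMap.range (omap b)) : ZMod 2) := fun g hg =>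
    par_eq_inter hQ (reflGroup_pi_eq_top hQ hex) (sqZero_omap hQ ha) (finrank_pi_eq hι) hr halt
      (omap_inv a) _ ((omap_conj a b g).1 hg)
  constructor
  · rintro ⟨g, hg, hgab⟩
    rw [← key g hgab]
    exact (mem_Omega_iff_par hQ hex g).1 hg
  · intro h0
    obtain ⟨c, hc⟩ := isConj_iff.1 hconj
    exact ⟨c, (mem_Omega_iff_par hQ hex c).2 ((key c hc).trans h0), hc⟩

include hQ in
theorem card_commuting_eq (hex : (∃ c : F, c ≠ 0 ∧ c ≠ 1) ∨ Fintype.card ι ≠ 4)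
    (a : ↥(Cfsg.isometryGroup F ⇑Q)) :
    Nat.card {g : ↥(Cfsg.Omega F ⇑Q) //
        (g : ↥(Cfsg.isometryGroup F ⇑Q)) * a = a * (g : ↥(Cfsg.isometryGroup F ⇑Q))} =
      Nat.card (centrEven hQ (reflGroup_pi_eq_top hQ hex) (omap a)) := by
  refine Nat.card_congr ((Equiv.subtypeSubtypeEquivSubtypeInter
    (fun g => g ∈ Cfsg.Omega F ⇑Q) (fun g => g * a = a * g)).trans
      ((oEquiv Q).toEquiv.subtypeEquiv fun g => ?_))
  show g ∈ Cfsg.Omega F ⇑Q ∧ g * a = a * g ↔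
    oEquiv Q g ∈ centrO Q (omap a) ∧ par (oEquiv Q g) = 0
  rw [mem_Omega_iff_par hQ hex, and_comm, ← mul_inv_eq_iff_eq_mul, omap_conj]
  rfl

end CfsgLib.Classical.CharTwo
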