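import Cfsg.Agent.Lib.Classical.CharTwo.StandardSigns

/-!
# No class splits for forms of negative sign
-/

set_option autoImplicit false

namespace CfsgLib.Classical.CharTwo

open QuadraticMap (polar polarBilin)
open CfsgLib.Classical.Quad

variable {F : Type*} [Field F] [CharP F 2] [Finite F] {V : Type*} [AddCommGroup V] [Module F V]
  [FiniteDimensional F V] [Fintype V] {Q : QuadraticForm F V} {T : V →ₗ[F] V} {m : ℕ}

open scoped _root_.Classical in
theorem signSum_eq_card_ker (hQ : (polarBilin Q).Nondegenerate) (h : SqZero (polarBilin Q) T)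
    (hs : ∀ z, T z = 0 → Q z = 0) : signSum Q = Fintype.card (LinearMap.ker T) := by
  rw [← signSum_ker_typeA hQ h fun v => hs _ (h.sq v)]
  unfold signSum
  simp [fun z : LinearMap.ker T => hs z (LinearMap.mem_ker.1 z.2), psi_zero]

theorem not_exceptional_of_neg (hQ : (polarBilin Q).Nondegenerate) (h : SqZero (polarBilin Q) T)
    (hV : Module.finrank F V = 2 * m) (hneg : signSum Q < 0) :
    ¬ (Module.finrank F (LinearMap.range T) = m ∧ ∀ v, Q (T v) = 0) := by
  classical
  intro hex
  rw [← ker_singular_iff hQ h hV] at hex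
  rw [signSum_eq_card_ker hQ h hex] at hneg
  linarith [Int.natCast_nonneg (Fintype.card (LinearMap.ker T))]

end CfsgLib.Classical.CharTwo
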