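import Cfsg.Agent.Lib.Classical.CharTwo.OrthInvolution
import Cfsg.Agent.Lib.Classical.Quad.TwoFamilies

/-!
# Splitting of classes of involutions in `Ω`
-/

set_option autoImplicit false

namespace CfsgLib.Classical.CharTwo

open QuadraticMap (polar polarBilin)
open LinearMap (BilinForm)
open CfsgLib.Classical.Quad CfsgLib.Known.OmegaCriterion

variable {F : Type*} [Field F] {V : Type*} [AddCommGroup V] [Module F V] [FiniteDimensional F V]
  {Q : QuadraticForm F V} {m : ℕ} (hQ : (polarBilin Q).Nondegenerate) (hR : reflGroup Q = ⊤)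

theorem isSing_map {W : Submodule F V} (hW : IsSing Q m W) (g : OQ Q) :
    IsSing Q m (W.map ((g : V ≃ₗ[F] V) : V →ₗ[F] V)) := by
  refine ⟨by rw [LinearEquiv.finrank_map_eq, hW.1], ?_⟩
  rintro _ ⟨w, hw, rfl⟩
  exact (OQ.map_apply g w).trans (hW.2 w hw)

/-- The parity of the codimension of the intersection. -/
noncomputable def sep (m : ℕ) (U W : Submodule F V) : ZMod 2 :=
  ((m - Module.finrank F ↥(U ⊓ W) : ℕ) : ZMod 2)

theorem sep_map (g : OQ Q) (U W : Submodule F V) :
    sep m (U.map ((g : V ≃ₗ[F] V) : V →ₗ[F] V)) (W.map ((g : V ≃ₗ[F] V) : V →ₗ[F] V)) = sep m U W := by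
  rw [sep, sep, ← Submodule.map_inf _ (g : V ≃ₗ[F] V).injective, LinearEquiv.finrank_map_eq]

include hQ in
theorem sep_add (hV : Module.finrank F V = 2 * m) {U W X : Submodule F V} (hU : IsSing Q m U)
    (hW : IsSing Q m W) (hX : IsSing Q m X) : sep m U X = sep m U W + sep m W X := by
  have h := (ZMod.natCast_eq_zero_iff_even).2 (even_three hQ hV hU hW hX)
  rw [Nat.cast_add, Nat.cast_add] at h
  exact (CharTwo.add_eq_zero.1 h).symm

theorem sep_comm (U W : Submodule F V) : sep m U W = sep m W U := by rw [sep, sep, inf_comm]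

include hQ in
theorem sep_refl (hV : Module.finrank F V = 2 * m) {W : Submodule F V} (hW : IsSing Q m W) {v : V}
    (hv : Q v ≠ 0) : sep m W (W.map (((refl hv : OQ Q) : V ≃ₗ[F] V) : V →ₗ[F] V)) = 1 := by
  let φ : W →ₗ[F] F := ((polarBilin Q) v).comp W.subtype
  have hφ : φ ≠ 0 := fun h0 => hv (hW.2 v (hW.mem_of_polar hQ hV fun w hw => by
    rw [QuadraticMap.polar_comm]
    exact LinearMap.congr_fun h0 ⟨w, hw⟩))
  have hk : Module.finrank F (LinearMap.ker φ) + 1 = m := by
    have h1 := φ.finrank_range_add_finrank_ker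
    rw [Module.Dual.range_eq_top_of_ne_zero hφ, finrank_top, Module.finrank_self, hW.1] at h1
    omega
  have e : W ⊓ W.map (((refl hv : OQ Q) : V ≃ₗ[F] V) : V →ₗ[F] V) =
      (LinearMap.ker φ).map W.subtype := by
    ext x
    constructor
    · rintro ⟨hxW, y, hy, rfl⟩
      change ((refl hv : OQ Q) : V ≃ₗ[F] V) y ∈ W at hxW
      have h0 : φ ⟨y, hy⟩ = 0 := by
        by_contra hne
        rw [refl_apply, W.sub_mem_iff_right hy] at hxW
        refine hv (hW.2 v ?_)
        have hc : (Q v)⁻¹ * polar Q y v ≠ 0 := by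
          refine mul_ne_zero (inv_ne_zero hv) ?_
          rw [QuadraticMap.polar_comm]
          exact hne
        exact (W.smul_mem_iff hc).1 hxW
      refine ⟨⟨y, hy⟩, h0, ?_⟩
      show y = ((refl hv : OQ Q) : V ≃ₗ[F] V) y
      rw [refl_apply, QuadraticMap.polar_comm, show polar Q v y = 0 from h0, mul_zero, zero_smul,
        sub_zero]
    · rintro ⟨⟨y, hy⟩, h0, rfl⟩
      refine ⟨hy, y, hy, ?_⟩
      show ((refl hv : OQ Q) : V ≃ₗ[F] V) y = y
      rw [refl_apply, QuadraticMap.polar_comm, show polar Q v y = 0 from h0, mul_zero, zero_smul,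
        sub_zero]
  rw [sep, e, Submodule.finrank_map_subtype_eq, show m - Module.finrank F (LinearMap.ker φ) = 1 by omega,
    Nat.cast_one]

include hQ hR in
/-- The parity of an isometry is read off from a maximal singular subspace. -/
theorem par_eq_sep (hV : Module.finrank F V = 2 * m) {W : Submodule F V} (hW : IsSing Q m W) (g : OQ Q) :
    par g = sep m W (W.map ((g : V ≃ₗ[F] V) : V →ₗ[F] V)) := by
  have hone : W.map (((1 : OQ Q) : V ≃ₗ[F] V) : V →ₗ[F] V) = W := Submodule.map_id W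
  refine Subgroup.closure_induction
    (p := fun g _ => par g = sep m W (W.map ((g : V ≃ₗ[F] V) : V →ₗ[F] V))) ?_ ?_ ?_ ?_
    (show g ∈ reflGroup Q from hR ▸ Subgroup.mem_top g)
  · rintro x ⟨v, hv, rfl⟩
    rw [sep_refl hQ hV hW hv, par_refl hQ]
  · rw [par_one hQ, hone, sep, inf_idem, hW.1, Nat.sub_self, Nat.cast_zero]
  · intro a b _ _ ha hb
    rw [par_mul hQ hR, map_mul_eq, sep_add hQ hV hW (isSing_map hW a) (isSing_map (isSing_map hW b) a),
      sep_map, ha, hb]
  · intro a _ ha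
    have e : par a⁻¹ = par a := by
      have h1 := par_mul hQ hR a a⁻¹
      rw [mul_inv_cancel, par_one hQ] at h1
      exact (CharTwo.add_eq_zero.1 h1.symm).symm
    rw [e, ha, ← sep_map a W (W.map ((((a⁻¹ : OQ Q)) : V ≃ₗ[F] V) : V →ₗ[F] V)), ← map_mul_eq,
      mul_inv_cancel, hone, sep_comm]

variable [CharP F 2] {T T' : V →ₗ[F] V} (h : SqZero (polarBilin Q) T)

include hQ h in
/-- The kernel of `T` is totally singular exactly in the exceptional case. -/
theorem ker_singular_iff (hV : Module.finrank F V = 2 * m) :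
    (∀ z, T z = 0 → Q z = 0) ↔
      Module.finrank F (LinearMap.range T) = m ∧ ∀ v, Q (T v) = 0 := by
  have hle : LinearMap.range T ≤ LinearMap.ker T := by
    rintro _ ⟨v, rfl⟩
    exact LinearMap.mem_ker.2 (h.sq v)
  have h1 := T.finrank_range_add_finrank_ker
  constructor
  · intro hs
    have h2 := two_mul_finrank_le hQ (W := LinearMap.ker T) fun w hw => hs w (LinearMap.mem_ker.1 hw)
    have h3 := Submodule.finrank_mono hle
    exact ⟨by omega, fun v => hs _ (h.sq v)⟩
  · rintro ⟨hr, halt⟩ z hz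
    have e := Submodule.eq_of_le_of_finrank_eq hle (by omega)
    obtain ⟨v, rfl⟩ : z ∈ LinearMap.range T := e ▸ LinearMap.mem_ker.2 hz
    exact halt v

include h in
omit [FiniteDimensional F V] [CharP F 2] in
theorem refl_mem_centrO {z : V} (hz : Q z ≠ 0) (hTz : T z = 0) : refl hz ∈ centrO Q T := fun v => by
  rw [refl_apply, refl_apply, map_sub, map_smul, hTz, smul_zero, sub_zero,
    show polar Q (T v) z = 0 from (h.adj v z).trans (by rw [hTz, map_zero]), mul_zero, zero_smul,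
    sub_zero]

include h in
omit [FiniteDimensional F V] [CharP F 2] in
theorem mul_refl_intertwines {z : V} (hz : Q z ≠ 0) (hTz : T z = 0) (k : OQ Q)
    (hk : ∀ v, (k : V ≃ₗ[F] V) (T v) = T' ((k : V ≃ₗ[F] V) v)) (v : V) :
    ((k * refl hz : OQ Q) : V ≃ₗ[F] V) (T v) = T' (((k * refl hz : OQ Q) : V ≃ₗ[F] V) v) := by
  show (k : V ≃ₗ[F] V) (((refl hz : OQ Q) : V ≃ₗ[F] V) (T v)) =
    T' ((k : V ≃ₗ[F] V) (((refl hz : OQ Q) : V ≃ₗ[F] V) v))
  rw [refl_mem_centrO h hz hTz v, hk]

include hQ hR h in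
/-- Outside the exceptional case a conjugating isometry may be taken of parity `0`. -/
theorem exists_conj_par_zero (hV : Module.finrank F V = 2 * m)
    (hex : ¬ (Module.finrank F (LinearMap.range T) = m ∧ ∀ v, Q (T v) = 0)) (k : OQ Q)
    (hk : ∀ v, (k : V ≃ₗ[F] V) (T v) = T' ((k : V ≃ₗ[F] V) v)) :
    ∃ k' : OQ Q, (∀ v, (k' : V ≃ₗ[F] V) (T v) = T' ((k' : V ≃ₗ[F] V) v)) ∧ par k' = 0 := by
  rw [← ker_singular_iff hQ h hV] at hex
  push Not at hex
  obtain ⟨z, hTz, hz⟩ := hex
  rcases (show ∀ e : ZMod 2, e = 0 ∨ e = 1 by decide) (par k) with e | e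
  · exact ⟨k, hk, e⟩
  · refine ⟨k * refl hz, mul_refl_intertwines h hz hTz k hk, ?_⟩
    rw [par_mul hQ hR, e, par_refl hQ]
    decide

omit [FiniteDimensional F V] [CharP F 2] in
theorem map_range_eq (k : OQ Q) (hk : ∀ v, (k : V ≃ₗ[F] V) (T v) = T' ((k : V ≃ₗ[F] V) v)) :
    (LinearMap.range T).map ((k : V ≃ₗ[F] V) : V →ₗ[F] V) = LinearMap.range T' := by
  ext w
  constructor
  · rintro ⟨_, ⟨v, rfl⟩, rfl⟩
    exact ⟨_, (hk v).symm⟩
  · rintro ⟨v, rfl⟩
    obtain ⟨u, rfl⟩ := (k : V ≃ₗ[F] V).surjective v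
    exact ⟨T u, LinearMap.mem_range_self T u, hk u⟩

include hQ hR h in
/-- In the exceptional case the parity of a conjugating isometry is determined. -/
theorem par_eq_inter [Finite F] (hV : Module.finrank F V = 2 * m)
    (hr : Module.finrank F (LinearMap.range T) = m) (halt : ∀ v, Q (T v) = 0)
    (hinv : ∀ v, Q (v + T v) = Q v) (k : OQ Q)
    (hk : ∀ v, (k : V ≃ₗ[F] V) (T v) = T' ((k : V ≃ₗ[F] V) v)) :
    par k = (Module.finrank F ↥(LinearMap.range T ⊓ LinearMap.range T') : ZMod 2) := by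
  have hW : IsSing Q m (LinearMap.range T) := ⟨hr, by rintro _ ⟨v, rfl⟩; exact halt v⟩
  have hA : IsTypeA (polarBilin Q) T := fun v => (apply_T hinv v).symm.trans (halt v)
  obtain ⟨j, x, -, hj⟩ := exists_frame_typeA (isAlt_polarBilin Q) h hA
  rw [par_eq_sep hQ hR hV hW k, map_range_eq k hk, sep]
  have hle := Submodule.finrank_mono
    (inf_le_left : LinearMap.range T ⊓ LinearMap.range T' ≤ LinearMap.range T)
  rw [Nat.cast_sub (by omega), show ((m : ℕ) : ZMod 2) = 0 from
    ZMod.natCast_eq_zero_iff_even.2 ⟨j, by omega⟩, zero_sub, CharTwo.neg_eq]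

/-- The isometries of parity `0` commuting with `T`. -/
def centrEven (hQ : (polarBilin Q).Nondegenerate) (hR : reflGroup Q = ⊤) (T : V →ₗ[F] V) :
    Subgroup (OQ Q) where
  carrier := {g | g ∈ centrO Q T ∧ par g = 0}
  mul_mem' {a b} ha hb := ⟨mul_mem ha.1 hb.1, by rw [par_mul hQ hR, ha.2, hb.2, add_zero]⟩
  one_mem' := ⟨one_mem _, par_one hQ⟩
  inv_mem' {a} ha := ⟨inv_mem ha.1, by
    have h1 := par_mul hQ hR a a⁻¹
    rwa [mul_inv_cancel, par_one hQ, ha.2, zero_add, eq_comm] at h1⟩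

include h in
theorem card_centrO_eq_two_mul [Finite F] {z : V} (hz : Q z ≠ 0) (hTz : T z = 0) :
    Nat.card (centrO Q T) = 2 * Nat.card (centrEven hQ hR T) := by
  have : Finite V := Module.finite_of_finite F
  have : Finite (V ≃ₗ[F] V) := Finite.of_injective _ DFunLike.coe_injective
  have hr := refl_mem_centrO h hz hTz
  rw [← Nat.card_congr (Equiv.sumCompl (fun g : centrO Q T => par (g : OQ Q) = 0)), Nat.card_sum]
  have e1 : Nat.card {g : centrO Q T // par (g : OQ Q) = 0} = Nat.card (centrEven hQ hR T) :=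
    Nat.card_congr (Equiv.subtypeSubtypeEquivSubtypeInter (fun g => g ∈ centrO Q T) fun g => par g = 0)
  have e2 : Nat.card {g : centrO Q T // ¬ par (g : OQ Q) = 0} =
      Nat.card {g : centrO Q T // par (g : OQ Q) = 0} :=
    Nat.card_congr ((Equiv.mulLeft (⟨refl hz, hr⟩ : centrO Q T)).subtypeEquiv fun g => by
      simp only [Equiv.coe_mulLeft, Subgroup.coe_mul, par_refl_mul hQ]
      exact (show ∀ e : ZMod 2, ¬ e = 0 ↔ e + 1 = 0 by decide) _)
  rw [e2, e1]
  ring

include h in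
theorem card_centrO_eq [Finite F] (hV : Module.finrank F V = 2 * m)
    (hr : Module.finrank F (LinearMap.range T) = m) (halt : ∀ v, Q (T v) = 0)
    (hinv : ∀ v, Q (v + T v) = Q v) :
    Nat.card (centrO Q T) = Nat.card (centrEven hQ hR T) := by
  refine Nat.card_congr (Equiv.subtypeEquivRight fun g => ⟨fun hg => ⟨hg, ?_⟩, fun hg => hg.1⟩)
  rw [par_eq_inter hQ hR h hV hr halt hinv g hg, inf_idem, hr]
  obtain ⟨j, x, -, hj⟩ := exists_frame_typeA (isAlt_polarBilin Q) h
    (fun v => (apply_T hinv v).symm.trans (halt v))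
  exact ZMod.natCast_eq_zero_iff_even.2 ⟨j, by omega⟩

end CfsgLib.Classical.CharTwo
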