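import Cfsg.Agent.Lib.Classical.CharTwo.Involution
import Cfsg.Agent.Lib.Classical.Unitary.Matrix

/-!
# Involutions of special unitary groups in characteristic two
-/

set_option autoImplicit false
set_option maxHeartbeats 800000

namespace CfsgLib.Classical.CharTwo

open scoped Matrix
open CfsgLib.Classical.Herm

section Abstract

variable {F : Type*} [Field F] [CharP F 2] [Finite F] {V : Type*} [AddCommGroup V] [Module F V]
  [FiniteDimensional F V] {σ : F →+* F} {B : V →ₛₗ[σ] V →ₗ[F] F} {T T' : V →ₗ[F] V}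

theorem exists_frame_herm (hH : IsHerm B) (h : SqZero B T) {s : ℕ}
    (hs : Module.finrank F (LinearMap.range T) = s) :
    ∃ x : Fin s → V, IsFrame B T (1 : Matrix (Fin s) (Fin s) F) x := by
  obtain ⟨C, hC, hnd, -⟩ := exists_gram_family h
  let b : C →ₛₗ[σ] C →ₗ[F] F :=
    { toFun := fun u => ((B (u : V)).comp T).comp C.subtype
      map_add' := fun u v => LinearMap.ext fun w => by simp
      map_smul' := fun c u => LinearMap.ext fun w => by simp }
  have hb : IsHerm b :=
    { invol := hH.invol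
      symm := fun u v => by
        show σ (B (u : V) (T v)) = B (v : V) (T u)
        rw [h.symm, h.adj]
      nondeg := fun u hu => Subtype.ext (hnd u u.2 fun v hv => hu ⟨v, hv⟩) }
  obtain ⟨e, he⟩ := hb.exists_orthonormal_basis (hC.trans hs)
  exact exists_isFrame h (by rw [Matrix.det_one]; exact isUnit_one)
    (fun v => hH.invol.exists_trace_eq (h.symm v v)) (fun i => (e i : V))
    fun i j => (he i j).trans Matrix.one_apply.symm

/-- Involutions of equal rank are conjugate in the unitary group. -/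
theorem exists_conj_herm (hH : IsHerm B) (h : SqZero B T) (h' : SqZero B T')
    (hs : Module.finrank F (LinearMap.range T) = Module.finrank F (LinearMap.range T')) :
    ∃ g : HU B, ∀ v, (g : V ≃ₗ[F] V) (T v) = T' ((g : V ≃ₗ[F] V) v) := by
  obtain ⟨x, hx⟩ := exists_frame_herm hH h rfl
  obtain ⟨x', hx'⟩ := exists_frame_herm hH h' hs.symm
  have hu : IsUnit (1 : Matrix (Fin (Module.finrank F (LinearMap.range T)))
      (Fin (Module.finrank F (LinearMap.range T))) F).det := by rw [Matrix.det_one]; exact isUnit_one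
  have h1 := finrank_framePerp h hx hu
  have h2 := finrank_framePerp h' hx' hu
  obtain ⟨e, he⟩ := IsHerm.exists_isometry_of_finrank_eq
    (hH.restrict_herm fun u hu' hn => framePerp_nondeg h hx hu hu' hn)
    (hH.restrict_herm fun u hu' hn => framePerp_nondeg h' hx' hu hu' hn)
    (show Module.finrank F (framePerp B T x) = Module.finrank F (framePerp B T' x') by omega)
  obtain ⟨g, hg, -⟩ := exists_iso h hx hu h' hx' (by simp) (by simp [hs]) e he
  exact ⟨g, hg⟩

/-- The centraliser of a non-trivial involution has every determinant of norm one. -/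
theorem exists_centr_det (hH : IsHerm B) (h : SqZero B T) (hT : T ≠ 0) (a : Fˣ)
    (ha : (a : F) * σ a = 1) :
    ∃ k : HU B, (∀ v, (k : V ≃ₗ[F] V) (T v) = T ((k : V ≃ₗ[F] V) v)) ∧ HU.det B k = a * a := by
  obtain ⟨s, hs⟩ : ∃ s, Module.finrank F (LinearMap.range T) = s + 1 := ⟨_, (Nat.succ_pred_eq_of_pos
    (Nat.pos_of_ne_zero fun h0 => hT (LinearMap.range_eq_bot.1 (Submodule.finrank_eq_zero.1 h0)))).symm⟩
  obtain ⟨y, hy⟩ := exists_frame_herm hH h hs
  set x := y 0
  set w := T (y 0) with hw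
  have hxx : B x x = 0 := hy.1 0 0
  have hxw : B x w = 1 := (hy.2 0 0).trans (Matrix.one_apply_eq 0)
  have hwx : B w x = 1 := by rw [← hH.symm, hxw, map_one]
  have hww : B w w = 0 := h.map_range _ _
  obtain ⟨c, hc⟩ := hH.invol.exists_trace_ne_zero
  set μ := c + σ c with hμ
  have h2 := CharTwo.two_eq_zero (R := F)
  have key : ∀ d, B (x + d • w) (x + d • w) = d + σ d := fun d => by
    simp only [map_add, LinearMap.add_apply, map_smul, LinearMap.map_smulₛₗ, LinearMap.smul_apply,
      smul_eq_mul, hxx, hxw, hwx, hww]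
    ring
  have hp : B (x + c • w) (x + c • w) ≠ 0 := by rw [key]; exact hc
  have hp' : B (x + σ c • w) (x + σ c • w) ≠ 0 := by rw [key, hH.invol.invol, add_comm]; exact hc
  set k := hH.quasiIso _ hp a ha * hH.quasiIso _ hp' a ha
  have happ : ∀ v, (k : V ≃ₗ[F] V) v = v + ((a : F) - 1) • (B w v • x + B x v • w) := by
    intro v
    show quasi B _ hp a (quasi B _ hp' a v) = _
    rw [quasi_apply, quasi_apply, key, key, hH.invol.invol]
    simp only [map_add, LinearMap.add_apply, map_smul, LinearMap.map_smulₛₗ, LinearMap.smul_apply,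
      smul_eq_mul, hxx, hxw, hwx, hww, hH.invol.invol]
    match_scalars <;> field_simp <;> grind
  refine ⟨k, fun v => ?_, by rw [map_mul, hH.det_quasiIso, hH.det_quasiIso]⟩
  rw [happ, happ, map_add T, map_smul T, map_add T, map_smul T, map_smul T, hw, h.sq, smul_zero,
    add_zero, h.map_range, zero_smul, zero_add, h.adj (y 0) v]

end Abstract

section Matrices

variable {F : Type*} [Field F] [Fintype F] [CharP F 2] {n q : ℕ}

/-- The map `a - 1`. -/
noncomputable def umap (a : ↥(Cfsg.SU n F q)) : (Fin n → F) →ₗ[F] (Fin n → F) :=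
  Matrix.mulVecLin (((a : Matrix.SpecialLinearGroup (Fin n) F) : Matrix (Fin n) (Fin n) F) - 1)

omit [Fintype F] [CharP F 2] in
theorem umap_apply (a : ↥(Cfsg.SU n F q)) (v : Fin n → F) :
    ((a : Matrix.SpecialLinearGroup (Fin n) F) : Matrix (Fin n) (Fin n) F) *ᵥ v = v + umap a v := by
  rw [umap, Matrix.mulVecLin_apply, Matrix.sub_mulVec, Matrix.one_mulVec, add_sub_cancel]

theorem sqZero_umap (hF : Fintype.card F = q ^ 2) {a : ↥(Cfsg.SU n F q)} (ha : a ^ 2 = 1) :
    SqZero (hermStd n hF) (umap a) := by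
  refine sqZero_of_invol (σ := powHom hF) (B := hermStd n hF) (T := umap a)
    (hermStd_isHerm hF).symm (hermStd_isHerm hF).nondeg (fun v => v + umap a v) (fun v => rfl) ?_ ?_
  · intro u v
    rw [← umap_apply, ← umap_apply, ← suEquiv_apply hF, ← suEquiv_apply hF]
    exact HU.map_eq _ u v
  · intro v
    show v + umap a v + umap a (v + umap a v) = v
    rw [← umap_apply, ← umap_apply, Matrix.mulVec_mulVec, ← Matrix.SpecialLinearGroup.coe_mul,
      ← Subgroup.coe_mul, ← pow_two, ha]
    simp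

omit [CharP F 2] in
theorem umap_conj (hF : Fintype.card F = q ^ 2) (a b c : ↥(Cfsg.SU n F q))
    (hc : ∀ v, ((suEquiv n hF c : HU (hermStd n hF)) : (Fin n → F) ≃ₗ[F] (Fin n → F)) (umap a v) =
      umap b (((suEquiv n hF c : HU (hermStd n hF)) : (Fin n → F) ≃ₗ[F] (Fin n → F)) v)) :
    c * a * c⁻¹ = b := by
  rw [mul_inv_eq_iff_eq_mul]
  refine Subtype.ext (Subtype.ext (Matrix.toLin'.injective (LinearMap.ext fun v => ?_)))
  simp only [suEquiv_apply] at hc
  simp only [Subgroup.coe_mul, Matrix.SpecialLinearGroup.coe_mul, Matrix.toLin'_apply,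
    ← Matrix.mulVec_mulVec]
  rw [umap_apply a, umap_apply b, Matrix.mulVec_add, hc]

omit [Fintype F] [CharP F 2] in
theorem rank_eq_of_isConj_SL {a b : ↥(Cfsg.SU n F q)}
    (h : IsConj (a : Matrix.SpecialLinearGroup (Fin n) F) (b : Matrix.SpecialLinearGroup (Fin n) F)) :
    (((a : Matrix.SpecialLinearGroup (Fin n) F) : Matrix (Fin n) (Fin n) F) - 1).rank =
      (((b : Matrix.SpecialLinearGroup (Fin n) F) : Matrix (Fin n) (Fin n) F) - 1).rank := by
  obtain ⟨c, hc⟩ := isConj_iff.1 h
  rw [← hc, Matrix.SpecialLinearGroup.coe_mul, Matrix.SpecialLinearGroup.coe_mul]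
  have hinv : (c : Matrix (Fin n) (Fin n) F) * ((c⁻¹ : Matrix.SpecialLinearGroup (Fin n) F) :
      Matrix (Fin n) (Fin n) F) = 1 := by
    rw [← Matrix.SpecialLinearGroup.coe_mul, mul_inv_cancel, Matrix.SpecialLinearGroup.coe_one]
  set C := (c : Matrix (Fin n) (Fin n) F)
  set D := ((c⁻¹ : Matrix.SpecialLinearGroup (Fin n) F) : Matrix (Fin n) (Fin n) F)
  have hd : C.det = 1 := c.det_coe
  rw [show C * (a : Matrix.SpecialLinearGroup (Fin n) F) * D - 1 =
      C * ((((a : Matrix.SpecialLinearGroup (Fin n) F) : Matrix (Fin n) (Fin n) F) - 1) * D) by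
    rw [sub_mul, one_mul, mul_sub, hinv, mul_assoc]]
  rw [Matrix.rank_mul_eq_right_of_isUnit_det _ _ (by rw [hd]; exact isUnit_one),
    Matrix.rank_mul_eq_left_of_isUnit_det _ _
      (by rw [show D.det = 1 from (c⁻¹).det_coe]; exact isUnit_one)]

theorem isConj_iff_rank (hF : Fintype.card F = q ^ 2) {a b : ↥(Cfsg.SU n F q)} (ha : orderOf a = 2)
    (hb : orderOf b = 2) :
    IsConj a b ↔ (((a : Matrix.SpecialLinearGroup (Fin n) F) : Matrix (Fin n) (Fin n) F) - 1).rank =
      (((b : Matrix.SpecialLinearGroup (Fin n) F) : Matrix (Fin n) (Fin n) F) - 1).rank := by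
  refine ⟨fun h => rank_eq_of_isConj_SL ((Cfsg.SU n F q).subtype.map_isConj h), fun hr => ?_⟩
  have hH := hermStd_isHerm (n := n) hF
  have ha2 : a ^ 2 = 1 := orderOf_dvd_iff_pow_eq_one.1 (dvd_of_eq ha)
  have h := sqZero_umap hF ha2
  have h' := sqZero_umap hF (orderOf_dvd_iff_pow_eq_one.1 (dvd_of_eq hb))
  have hT : umap a ≠ 0 := fun h0 => by
    have h1 : a = 1 := Subtype.ext (Subtype.ext (Matrix.toLin'.injective (LinearMap.ext fun v => by
      simp [umap_apply, h0])))
    simp [h1] at ha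
  obtain ⟨g, hg⟩ := exists_conj_herm hH h h' hr
  have hn := hH.det_norm_one g
  obtain ⟨r, hr2⟩ := FiniteField.isSquare_of_char_two (ringChar.eq F 2) ((HU.det (hermStd n hF) g : F)⁻¹)
  have hr0 : r ≠ 0 := fun h0 => by simp [h0] at hr2
  have hrn : r * powHom hF r = 1 := CharTwo.sq_injective (by
    show (r * powHom hF r) ^ 2 = 1 ^ 2
    rw [mul_pow, one_pow, ← map_pow, sq r, ← hr2, map_inv₀, ← mul_inv, hn, inv_one])
  obtain ⟨k, hk, hkd⟩ := exists_centr_det hH h hT (Units.mk0 r hr0) hrn
  have hdet : g * k ∈ HSU (hermStd n hF) := by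
    rw [MonoidHom.mem_ker, map_mul, hkd]
    ext
    simp only [Units.val_mul, Units.val_mk0, ← hr2, Units.val_one]
    exact mul_inv_cancel₀ (Units.ne_zero _)
  obtain ⟨c, hc⟩ := (suEquiv n hF).surjective ⟨g * k, hdet⟩
  refine isConj_iff.2 ⟨c, umap_conj hF a b c fun v => ?_⟩
  rw [hc]
  show (g : (Fin n → F) ≃ₗ[F] (Fin n → F)) ((k : (Fin n → F) ≃ₗ[F] (Fin n → F)) (umap a v)) = _
  rw [hk, hg]
  rfl

end Matrices

end CfsgLib.Classical.CharTwo
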