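import Cfsg.Agent.Lib.Classical.Symplectic.Matrix
import Cfsg.Agent.Lib.Classical.CharTwo.FrameCount

/-!
# The isometry groups of the standard symmetric and alternating forms in characteristic two
-/

set_option autoImplicit false

namespace CfsgLib.Classical.CharTwo

open scoped Matrix
open LinearMap (BilinForm)
open CfsgLib.Classical.Symp

variable {F : Type*} [Field F]

section MatrixAuto

variable {ι : Type*} [Fintype ι] [DecidableEq ι]

/-- The matrices with `A * Aᵀ = 1` are the isometries of the dot product. -/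
theorem card_gramPres_one [Finite F] :
    Nat.card (gramPres (RingHom.id F) (1 : Matrix ι ι F)) =
      Nat.card (Iso F (fun u v : ι → F => u ⬝ᵥ v)) := by
  have hmem : ∀ {A : Matrix ι ι F}, A ∈ gramPres (RingHom.id F) (1 : Matrix ι ι F) ↔ Aᵀ * A = 1 := by
    intro A
    show A.map (RingHom.id F) * 1 * Aᵀ = 1 ↔ _
    rw [RingHom.coe_id, Matrix.map_id, mul_one]
    exact mul_eq_one_comm
  have hdot : ∀ (A : Matrix ι ι F) (u v : ι → F), (A *ᵥ u) ⬝ᵥ (A *ᵥ v) = u ⬝ᵥ ((Aᵀ * A) *ᵥ v) := by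
    intro A u v
    rw [← Matrix.mulVec_mulVec, Matrix.dotProduct_mulVec u, Matrix.vecMul_transpose]
  refine Nat.card_congr (Equiv.ofBijective
    (fun A => (⟨Matrix.toLin'OfInv (hmem.1 A.2) (mul_eq_one_comm.1 (hmem.1 A.2)), fun u v => ?_⟩ :
      Iso F (fun u v : ι → F => u ⬝ᵥ v))) ⟨fun A A' hAA => ?_, fun g => ?_⟩)
  · show ((A : Matrix ι ι F) *ᵥ u) ⬝ᵥ ((A : Matrix ι ι F) *ᵥ v) = u ⬝ᵥ v
    rw [hdot, hmem.1 A.2, Matrix.one_mulVec]
  · refine Subtype.ext (Matrix.toLin'.injective (LinearMap.ext fun z => ?_))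
    rw [Matrix.toLin'_apply, Matrix.toLin'_apply]
    exact LinearEquiv.congr_fun (congrArg Subtype.val hAA) z
  · set A := LinearMap.toMatrix' ((g : (ι → F) ≃ₗ[F] (ι → F)) : (ι → F) →ₗ[F] (ι → F))
    have hA : ∀ z, A *ᵥ z = (g : (ι → F) ≃ₗ[F] (ι → F)) z := fun z => LinearMap.toMatrix'_mulVec _ z
    have hAA : Aᵀ * A = 1 := by
      refine Matrix.toBilin'.injective (LinearMap.ext fun u => LinearMap.ext fun v => ?_)
      rw [Matrix.toBilin'_apply', Matrix.toBilin'_apply', ← hdot, hA, hA, Matrix.one_mulVec]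
      exact Iso.map_eq (f := fun u v : ι → F => u ⬝ᵥ v) g u v
    exact ⟨⟨A, hmem.2 hAA⟩, Subtype.ext (LinearEquiv.ext hA)⟩

theorem card_gramPres_J [Fintype F] (k : ℕ) :
    Nat.card (gramPres (RingHom.id F) (Matrix.J (Fin k) F)) =
      Nat.card (Matrix.symplecticGroup (Fin k) F) :=
  Nat.card_congr (Equiv.subtypeEquivRight fun A => by
    show A.map (RingHom.id F) * Matrix.J (Fin k) F * Aᵀ = Matrix.J (Fin k) F ↔ _
    rw [RingHom.coe_id, Matrix.map_id, SymplecticGroup.mem_iff])

end MatrixAuto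

variable [CharP F 2] {n : ℕ}

theorem dot_self (v : Fin n → F) : v ⬝ᵥ v = (∑ i, v i) ^ 2 := by
  rw [CharTwo.sum_sq]
  exact Finset.sum_congr rfl fun i _ => (sq _).symm

theorem one_dot (v : Fin n → F) : (1 : Fin n → F) ⬝ᵥ v = ∑ i, v i := one_dotProduct v

theorem iso_dot_sum (g : Iso F (fun u v : Fin n → F => u ⬝ᵥ v)) (v : Fin n → F) :
    ∑ i, (g : (Fin n → F) ≃ₗ[F] (Fin n → F)) v i = ∑ i, v i := by
  have h := Iso.map_eq (f := fun u v : Fin n → F => u ⬝ᵥ v) g v v
  simp only [dot_self] at h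
  exact CharTwo.sq_injective h

theorem iso_dot_one (g : Iso F (fun u v : Fin n → F => u ⬝ᵥ v)) :
    (g : (Fin n → F) ≃ₗ[F] (Fin n → F)) 1 = 1 := by
  refine dotProduct_eq _ _ fun v => ?_
  obtain ⟨w, rfl⟩ := (g : (Fin n → F) ≃ₗ[F] (Fin n → F)).surjective v
  rw [Iso.map_eq (f := fun u v : Fin n → F => u ⬝ᵥ v) g, one_dot, one_dot, iso_dot_sum]

theorem natCast_card_even {k : ℕ} (hn : n = 2 * k) : (n : F) = 0 := by
  simp [hn, CharTwo.two_eq_zero]

variable [Fintype F]

/-- The orthogonal group of the dot product in even dimension is a vector stabiliser in `Sp`. -/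
theorem card_gramPres_one_even {k : ℕ} (hn : n = 2 * (k + 1)) :
    Nat.card (gramPres (RingHom.id F) (1 : Matrix (Fin n) (Fin n) F)) =
      Fintype.card F ^ (2 * k + 1) *
        (Fintype.card F ^ (k ^ 2) * ∏ i ∈ Finset.range k, (Fintype.card F ^ (2 * (i + 1)) - 1)) := by
  rw [card_gramPres_one]
  let B : BilinForm F (Fin n → F) :=
    LinearMap.mk₂ F (fun u v => u ⬝ᵥ v + (∑ i, u i) * ∑ i, v i)
      (fun u u' v => by simp [add_dotProduct, Finset.sum_add_distrib]; ring)
      (fun c u v => by simp [Finset.mul_sum, ← Finset.mul_sum]; ring)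
      (fun u v v' => by simp [dotProduct_add, Finset.sum_add_distrib]; ring)
      (fun c u v => by simp [Finset.mul_sum, ← Finset.mul_sum]; ring)
  have hB : ∀ u v, B u v = u ⬝ᵥ v + (∑ i, u i) * ∑ i, v i := fun u v => rfl
  have h1 : ∀ v, B 1 v = ∑ i, v i := fun v => by
    rw [hB, one_dot]
    simp [natCast_card_even hn]
  have hA : B.IsAlt := fun v => by
    rw [hB, dot_self, sq, CharTwo.add_self_eq_zero]
  have hnd : B.Nondegenerate := by
    suffices hl : ∀ u, (∀ v, B u v = 0) → u = 0 from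
      ⟨hl, fun u hu => hl u fun w => by rw [Symp.swap hA w u, hu, neg_zero]⟩
    intro u hu
    have hs : ∑ i, u i = 0 := by
      have := hu 1
      rwa [Symp.swap hA 1 u, h1, neg_eq_zero] at this
    exact dotProduct_eq_zero _ fun v => by simpa [hB, hs] using hu v
  have hN : Module.finrank F (Fin n → F) = 2 * (k + 1) := by rw [Module.finrank_fin_fun, hn]
  have hone : (1 : Fin n → F) ≠ 0 := fun h =>
    one_ne_zero (α := F) (congrFun h ⟨0, by omega⟩)
  have : Finite ((Fin n → F) ≃ₗ[F] (Fin n → F)) := Finite.of_injective _ DFunLike.coe_injective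
  have key : Nat.card (MulAction.orbit (Sp B) (1 : Fin n → F)) *
      Nat.card (MulAction.stabilizer (Sp B) (1 : Fin n → F)) = Nat.card (Sp B) := by
    rw [← Nat.card_prod]
    exact Nat.card_congr (MulAction.orbitProdStabilizerEquivGroup _ _)
  have horb : MulAction.orbit (Sp B) (1 : Fin n → F) = {v | v ≠ 0} := by
    ext v
    refine ⟨?_, fun hv => ?_⟩
    · rintro ⟨g, rfl⟩
      exact fun h => hone ((g : (Fin n → F) ≃ₗ[F] (Fin n → F)).map_eq_zero_iff.1
        (show (g : (Fin n → F) ≃ₗ[F] (Fin n → F)) 1 = 0 from h))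
    · obtain ⟨t, -, ht⟩ := sp_transitive_ne_zero hA hnd hone hv
      exact ⟨t, ht⟩
  have hstab : Nat.card (MulAction.stabilizer (Sp B) (1 : Fin n → F)) =
      Nat.card (Iso F (fun u v : Fin n → F => u ⬝ᵥ v)) := by
    refine Nat.card_congr
      { toFun := fun g => ⟨((g : Sp B) : (Fin n → F) ≃ₗ[F] _), fun u v => ?_⟩
        invFun := fun g => ⟨⟨(g : (Fin n → F) ≃ₗ[F] _), fun u v => ?_⟩,
          MulAction.mem_stabilizer_iff.2 (iso_dot_one g)⟩
        left_inv := fun g => rfl
        right_inv := fun g => rfl }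
    · set f := ((g : Sp B) : (Fin n → F) ≃ₗ[F] (Fin n → F))
      have hfix : f 1 = 1 := g.2
      have hsum : ∀ w, ∑ i, f w i = ∑ i, w i := fun w => by
        have : B (f 1) (f w) = B 1 w := (g : Sp B).2 1 w
        rwa [hfix, h1, h1] at this
      have : B (f u) (f v) = B u v := (g : Sp B).2 u v
      rw [hB, hB, hsum, hsum] at this
      exact add_right_cancel this
    · show B _ _ = B _ _
      rw [hB, hB, iso_dot_sum, iso_dot_sum]
      exact congrArg (· + _) (g.2 u v)
  rw [horb, show Nat.card ({v | v ≠ 0} : Set (Fin n → F)) = _ from natCard_ne_zero_eq (F := F), hN,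
    hstab, card_Sp hA hnd (k + 1) hN, Nat.card_eq_fintype_card (α := F), Finset.prod_range_succ,
    show (k + 1) ^ 2 = 2 * k + 1 + k ^ 2 by ring, pow_add (Fintype.card F) (2 * k + 1)] at key
  have hpos : 0 < Fintype.card F ^ (2 * (k + 1)) - 1 := by
    have := Nat.one_lt_pow (n := 2 * (k + 1)) (by omega) (Fintype.one_lt_card (α := F))
    omega
  refine Nat.eq_of_mul_eq_mul_left hpos (key.trans ?_)
  ring

/-- The orthogonal group of the dot product in odd dimension is symplectic. -/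
theorem card_gramPres_one_odd {k : ℕ} (hn : n = 2 * k + 1) :
    Nat.card (gramPres (RingHom.id F) (1 : Matrix (Fin n) (Fin n) F)) =
      Fintype.card F ^ (k ^ 2) * ∏ i ∈ Finset.range k, (Fintype.card F ^ (2 * (i + 1)) - 1) := by
  rw [card_gramPres_one]
  let f : (Fin n → F) →ₗ[F] F := Fintype.linearCombination F (fun _ => (1 : F))
  have hf : ∀ v, f v = ∑ i, v i := fun v => by simp [f, Fintype.linearCombination_apply]
  have hf1 : f 1 = 1 := by simp [hf, hn, CharTwo.two_eq_zero]
  set H := LinearMap.ker f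
  let D : BilinForm F (Fin n → F) := Matrix.toBilin' (1 : Matrix (Fin n) (Fin n) F)
  have hD : ∀ u v, D u v = u ⬝ᵥ v := fun u v => by
    rw [Matrix.toBilin'_apply', Matrix.one_mulVec]
  have hA : (D.restrict H).IsAlt := fun v => by
    show D (v : Fin n → F) v = 0
    rw [hD, dot_self, ← hf, LinearMap.mem_ker.1 v.2, zero_pow two_ne_zero]
  have hdec : ∀ v, v - f v • 1 ∈ H := fun v => by
    rw [LinearMap.mem_ker, map_sub, map_smul, hf1, smul_eq_mul, mul_one, sub_self]
  have hperp : ∀ u ∈ H, (1 : Fin n → F) ⬝ᵥ u = 0 := fun u hu => by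
    rw [one_dot, ← hf, LinearMap.mem_ker.1 hu]
  have hnd : (D.restrict H).Nondegenerate := by
    suffices hl : ∀ u, (∀ v, D.restrict H u v = 0) → u = 0 from
      ⟨hl, fun u hu => hl u fun w => by rw [Symp.swap hA w u, hu, neg_zero]⟩
    intro u hu
    refine Subtype.ext (dotProduct_eq_zero _ fun v => ?_)
    rw [← sub_add_cancel v (f v • 1), dotProduct_add, dotProduct_smul, dotProduct_comm _ (1 : Fin n → F),
      hperp _ u.2, smul_zero, add_zero, ← hD]
    exact hu ⟨_, hdec v⟩
  have hH : Module.finrank F H = 2 * k := by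
    have hs : Function.Surjective f := fun c => ⟨c • 1, by simp [map_smul, hf1]⟩
    have := LinearMap.finrank_range_add_finrank_ker f
    rw [LinearMap.range_eq_top.2 hs, finrank_top, Module.finrank_self, Module.finrank_fin_fun] at this
    change 1 + Module.finrank F H = n at this
    omega
  rw [← Nat.card_eq_fintype_card, ← card_Sp hA hnd k hH]
  have hpres : ∀ g : Iso F (fun u v : Fin n → F => u ⬝ᵥ v), ∀ u,
      (g : (Fin n → F) ≃ₗ[F] _) u ∈ H ↔ u ∈ H := fun g u => by
    rw [LinearMap.mem_ker, LinearMap.mem_ker, hf, hf, iso_dot_sum]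
  refine Nat.card_congr (Equiv.ofBijective
    (fun g => (⟨(g : (Fin n → F) ≃ₗ[F] _).ofSubmodules H H (by
      ext v
      rw [Submodule.mem_map_equiv, ← hpres g, LinearEquiv.apply_symm_apply]),
      fun u v => ?_⟩ : Sp (D.restrict H))) ⟨fun g g' hgg => ?_, fun s => ?_⟩)
  · show D _ _ = D (u : Fin n → F) v
    rw [hD, hD]
    exact g.2 _ _
  · refine Subtype.ext (LinearEquiv.ext fun v => ?_)
    have h := congrArg Subtype.val (LinearEquiv.congr_fun (congrArg Subtype.val hgg) ⟨_, hdec v⟩)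
    rw [← sub_add_cancel v (f v • 1), map_add, map_add, map_smul, map_smul, iso_dot_one, iso_dot_one]
    exact congrArg (· + _) h
  · let p : (Fin n → F) →ₗ[F] H :=
      LinearMap.codRestrict H (LinearMap.id - f.smulRight 1) hdec
    let e : (Fin n → F) →ₗ[F] (Fin n → F) :=
      H.subtype ∘ₗ (s : H ≃ₗ[F] H).toLinearMap ∘ₗ p + f.smulRight 1
    have he : ∀ v, e v = ((s : H ≃ₗ[F] H) (p v) : Fin n → F) + f v • 1 := fun v => rfl
    have hiso : ∀ u v, e u ⬝ᵥ e v = u ⬝ᵥ v := by
      intro u v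
      have hs := s.2 (p u) (p v)
      change D _ _ = D _ _ at hs
      rw [hD, hD] at hs
      change ((s : H ≃ₗ[F] H) (p u) : Fin n → F) ⬝ᵥ ((s : H ≃ₗ[F] H) (p v) : Fin n → F) =
        (p u : Fin n → F) ⬝ᵥ (p v : Fin n → F) at hs
      have hz : ∀ w : H, (w : Fin n → F) ⬝ᵥ 1 = 0 := fun w => by rw [dotProduct_comm, hperp _ w.2]
      have hz' : ∀ w : H, (1 : Fin n → F) ⬝ᵥ w = 0 := fun w => hperp _ w.2
      have eu : u = (p u : Fin n → F) + f u • 1 := (sub_add_cancel _ _).symm
      have ev : v = (p v : Fin n → F) + f v • 1 := (sub_add_cancel _ _).symm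
      conv_rhs => rw [eu, ev]
      simp only [he, add_dotProduct, dotProduct_add, smul_dotProduct, dotProduct_smul, hz, hz', hs]
    have hinj : Function.Injective e := by
      rw [injective_iff_map_eq_zero]
      intro v hv
      exact dotProduct_eq_zero _ fun w => by rw [← hiso, hv, zero_dotProduct]
    refine ⟨⟨LinearEquiv.ofBijective e ⟨hinj, LinearMap.injective_iff_surjective.1 hinj⟩, hiso⟩,
      Subtype.ext (LinearEquiv.ext fun u => Subtype.ext ?_)⟩
    show e (u : Fin n → F) = _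
    have hpu : p (u : Fin n → F) = u := Subtype.ext (by
      show (u : Fin n → F) - f u • 1 = u
      rw [LinearMap.mem_ker.1 u.2, zero_smul, sub_zero])
    rw [he, hpu, LinearMap.mem_ker.1 u.2, zero_smul, add_zero]

end CfsgLib.Classical.CharTwo
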