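import Cfsg.Agent.Lib.Classical.CharTwo.Involution
import Cfsg.Agent.Lib.Classical.CharTwo.SymOrth
import Cfsg.Agent.Lib.Classical.Symplectic.Geometry
import Cfsg.Agent.Lib.Known.CharTwoForms

/-!
# Involutions of symplectic groups in characteristic two

An involution `1 + T` is determined up to conjugacy by `rank T` and by whether the quadratic map
`v ↦ B v (T v)` vanishes.
-/

set_option autoImplicit false

namespace CfsgLib.Classical.CharTwo

open scoped Matrix
open LinearMap (BilinForm)
open CfsgLib.Classical.Symp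

variable {F : Type*} [Field F] [CharP F 2] {V : Type*} [AddCommGroup V] [Module F V]
  [FiniteDimensional F V] {B : BilinForm F V} {T T' : V →ₗ[F] V}

theorem trace_of_isAlt (hA : B.IsAlt) (v : V) : ∃ c : F, c + RingHom.id F c = B v v :=
  ⟨0, by rw [hA v, map_zero, add_zero]⟩

omit [CharP F 2] [FiniteDimensional F V] in
theorem nondegenerate_of_separating (hA : B.IsAlt) (hl : ∀ u, (∀ v, B u v = 0) → u = 0) :
    B.Nondegenerate :=
  ⟨hl, fun u hu => hl u fun w => by rw [Symp.swap hA w u, hu, neg_zero]⟩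

section Perp

variable {ι : Type*} [Fintype ι] [DecidableEq ι] {S : Matrix ι ι F} {x x' : ι → V}
  (hA : B.IsAlt) (h : SqZero B T) (hx : IsFrame B T S x) (hS : IsUnit S.det)

omit [CharP F 2] in
include hA h hx hS in
theorem restrict_framePerp_nondeg : (B.restrict (framePerp B T x)).Nondegenerate :=
  nondegenerate_of_separating (restrict_isAlt hA _) fun u hu =>
    Subtype.ext (framePerp_nondeg h hx hS u.2 fun v hv => hu ⟨v, hv⟩)

include hA h hx hS in
omit [CharP F 2] in
theorem exists_perp_equiv (h' : SqZero B T') (hx' : IsFrame B T' S x') :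
    ∃ e : framePerp B T x ≃ₗ[F] framePerp B T' x',
      ∀ u u', B (e u : V) (e u' : V) = B (u : V) u' := by
  have h1 := finrank_framePerp h hx hS
  have h2 := finrank_framePerp h' hx' hS
  obtain ⟨e, he⟩ := exists_isometry (restrict_isAlt hA _) (restrict_framePerp_nondeg hA h hx hS)
    (restrict_isAlt hA (framePerp B T' x')) (restrict_framePerp_nondeg hA h' hx' hS) (by omega)
  exact ⟨e, he⟩

end Perp

/-- The form `v ↦ B v (T v)` vanishes. -/
def IsTypeA (B : BilinForm F V) (T : V →ₗ[F] V) : Prop := ∀ v, B v (T v) = 0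

variable (hA : B.IsAlt)

include hA in
theorem exists_frame_typeA (h : SqZero B T) (halt : IsTypeA B T) :
    ∃ (k : ℕ) (x : Fin k ⊕ Fin k → V), IsFrame B T (Matrix.J (Fin k) F) x ∧
      Module.finrank F (LinearMap.range T) = 2 * k := by
  obtain ⟨C, hC, hnd, -⟩ := exists_gram_family h
  let b : BilinForm F C := LinearMap.BilinForm.restrict (B.compl₂ T) C
  have hb : b.IsAlt := fun v => halt v
  obtain ⟨k, e, ⟨he1, he2, he3⟩, hk⟩ := exists_sympSys hb
    (nondegenerate_of_separating hb fun u hu => Subtype.ext (hnd u u.2 fun v hv => hu ⟨v, hv⟩))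
  obtain ⟨x, hx⟩ := exists_isFrame h (Matrix.isUnit_det_J (Fin k) F) (trace_of_isAlt hA)
    (fun i => (e i : V)) (fun i j => by
      show b (e i) (e j) = _
      rcases i with i | i <;> rcases j with j | j
      · simp [Matrix.J, he2]
      · simp [Matrix.J, he1, Matrix.one_apply, CharTwo.neg_eq]
      · rw [Symp.swap hb (e (.inl j)) (e (.inr i)), he1]
        simp [Matrix.J, Matrix.one_apply, CharTwo.neg_eq, eq_comm]
      · simp [Matrix.J, he3])
  exact ⟨k, x, hx, by omega⟩

include hA in
theorem exists_frame_not_typeA [Finite F] (h : SqZero B T) (halt : ¬ IsTypeA B T) {s : ℕ}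
    (hs : Module.finrank F (LinearMap.range T) = s) :
    ∃ x : Fin s → V, IsFrame B T (1 : Matrix (Fin s) (Fin s) F) x := by
  obtain ⟨C, hC, hnd, hdec⟩ := exists_gram_family h
  let b : BilinForm F C := LinearMap.BilinForm.restrict (B.compl₂ T) C
  have hsym : ∀ u v : V, B u (T v) = B v (T u) := fun u v => by
    rw [← h.adj, Symp.swap hA v (T u), CharTwo.neg_eq]
  have hbs : b.IsSymm := ⟨fun u v => hsym u v⟩
  have hbn : b.Nondegenerate :=
    ⟨fun u hu => Subtype.ext (hnd u u.2 fun v hv => hu ⟨v, hv⟩),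
      fun u hu => Subtype.ext (hnd u u.2 fun v hv => (hsym _ _).trans (hu ⟨v, hv⟩))⟩
  obtain ⟨v, hv⟩ := not_forall.1 halt
  obtain ⟨c, hc, hcv⟩ := hdec v
  obtain ⟨e, he⟩ := Known.CharTwoForms.exists_orthonormal (hC.trans hs) b hbs hbn
    ⟨⟨c, hc⟩, fun h0 => hv (by
      have h1 : B c (T c) = 0 := h0
      rw [← hcv, hsym, ← hcv]
      exact h1)⟩
  exact exists_isFrame h (by rw [Matrix.det_one]; exact isUnit_one) (trace_of_isAlt hA)
    (fun i => (e i : V)) fun i j => (he i j).trans (Matrix.one_apply).symm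

omit [CharP F 2] in
theorem isTypeA_of_frame_J {k : ℕ} {x : Fin k ⊕ Fin k → V} (h : SqZero B T)
    (hx : IsFrame B T (Matrix.J (Fin k) F) x) (hs : Module.finrank F (LinearMap.range T) = 2 * k) :
    IsTypeA B T := fun v => by
  have := apply_self_of_isFrame h hx (Matrix.isUnit_det_J (Fin k) F)
    (by simp [hs, two_mul]) v
  rw [this]
  simp [Matrix.J, Fintype.sum_sum_type, Matrix.fromBlocks_mulVec, Matrix.neg_mulVec, mul_comm]

theorem not_isTypeA_of_frame_one {s : ℕ} {x : Fin s → V} (hs0 : 0 < s)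
    (hx : IsFrame B T (1 : Matrix (Fin s) (Fin s) F) x) : ¬ IsTypeA B T := fun halt => by
  have := (hx.2 ⟨0, hs0⟩ ⟨0, hs0⟩).symm.trans (halt _)
  simp at this

omit [CharP F 2] [FiniteDimensional F V] in
theorem isTypeA_of_range_eq_zero [FiniteDimensional F V]
    (hs : Module.finrank F (LinearMap.range T) = 0) : IsTypeA B T := fun v => by
  have : T v ∈ LinearMap.range T := LinearMap.mem_range_self T v
  rw [Submodule.finrank_eq_zero.1 hs, Submodule.mem_bot] at this
  rw [this, map_zero]

omit [CharP F 2] [FiniteDimensional F V] in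
theorem isTypeA_of_conj {g : Sp B} (hg : ∀ v, (g : V ≃ₗ[F] V) (T v) = T' ((g : V ≃ₗ[F] V) v)) :
    IsTypeA B T ↔ IsTypeA B T' := by
  refine ⟨fun h v => ?_, fun h v => ?_⟩
  · obtain ⟨w, rfl⟩ := (g : V ≃ₗ[F] V).surjective v
    rw [← hg]
    exact (g.2 w (T w)).trans (h w)
  · exact ((g.2 v (T v)).symm.trans (by rw [hg])).trans (h _)

include hA in
/-- Conjugacy of involutions. -/
theorem exists_conj_iff [Finite F] (h : SqZero B T) (h' : SqZero B T') :
    (∃ g : Sp B, ∀ v, (g : V ≃ₗ[F] V) (T v) = T' ((g : V ≃ₗ[F] V) v)) ↔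
      Module.finrank F (LinearMap.range T) = Module.finrank F (LinearMap.range T') ∧
        (IsTypeA B T ↔ IsTypeA B T') := by
  constructor
  · rintro ⟨g, hg⟩
    refine ⟨?_, isTypeA_of_conj hg⟩
    have e : (LinearMap.range T).map ((g : V ≃ₗ[F] V) : V →ₗ[F] V) = LinearMap.range T' := by
      ext w
      constructor
      · rintro ⟨_, ⟨v, rfl⟩, rfl⟩
        exact ⟨_, (hg v).symm⟩
      · rintro ⟨v, rfl⟩
        obtain ⟨u, rfl⟩ := (g : V ≃ₗ[F] V).surjective v
        exact ⟨T u, LinearMap.mem_range_self T u, hg u⟩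
    rw [← e, LinearEquiv.finrank_map_eq]
  · rintro ⟨hs, hiff⟩
    by_cases ha : IsTypeA B T
    · obtain ⟨k, x, hx, hk⟩ := exists_frame_typeA hA h ha
      obtain ⟨k', x', hx', hk'⟩ := exists_frame_typeA hA h' (hiff.1 ha)
      obtain rfl : k = k' := by omega
      have hu := Matrix.isUnit_det_J (Fin k) F
      obtain ⟨e, he⟩ := exists_perp_equiv hA h hx hu h' hx'
      obtain ⟨g, hg, -⟩ := exists_iso h hx hu h' hx' (by simp [hk, two_mul]) (by simp [hk', two_mul]) e he
      exact ⟨g, hg⟩
    · obtain ⟨x, hx⟩ := exists_frame_not_typeA hA h ha rfl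
      obtain ⟨x', hx'⟩ := exists_frame_not_typeA hA h' (fun h0 => ha (hiff.2 h0)) hs.symm
      have hu : IsUnit (1 : Matrix (Fin (Module.finrank F (LinearMap.range T)))
          (Fin (Module.finrank F (LinearMap.range T))) F).det := by
        rw [Matrix.det_one]; exact isUnit_one
      obtain ⟨e, he⟩ := exists_perp_equiv hA h hx hu h' hx'
      obtain ⟨g, hg, -⟩ := exists_iso h hx hu h' hx' (by simp) (by simp [hs]) e he
      exact ⟨g, hg⟩

include hA in
theorem card_centr_of_frame [Finite F] {ι : Type*} [Fintype ι] [DecidableEq ι] {S : Matrix ι ι F}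
    {x : ι → V} (h : SqZero B T) (hx : IsFrame B T S x) (hS : IsUnit S.det)
    (hs : Module.finrank F (LinearMap.range T) = Fintype.card ι) {m : ℕ}
    (hV : Module.finrank F V = 2 * m) :
    Nat.card (centr B T) = Nat.card F ^ (Fintype.card ι * (2 * (m - Fintype.card ι)) +
        (Fintype.card ι + 1).choose 2) * Nat.card (gramPres (RingHom.id F) S) *
      (Nat.card F ^ ((m - Fintype.card ι) ^ 2) *
        ∏ i ∈ Finset.range (m - Fintype.card ι), (Nat.card F ^ (2 * (i + 1)) - 1)) := by
  have hd := finrank_framePerp h hx hS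
  have hU : Module.finrank F (framePerp B T x) = 2 * (m - Fintype.card ι) := by omega
  rw [card_centr h hx hS hs fun y hy => exists_perp_equiv hA h hx hS h hy,
    card_frames_eq h hS hx hs, card_lifts h hS hx hs (fun _ => rfl) (trace_of_isAlt hA),
    card_halves_symm, hU,
    show Nat.card (Iso F (restr (fun u v => B u v) (framePerp B T x))) = _ from
      card_Sp (restrict_isAlt hA _) (restrict_framePerp_nondeg hA h hx hS) _ hU, pow_add]
  ring

omit [CharP F 2] in
theorem finrank_range_le {m : ℕ} (hV : Module.finrank F V = 2 * m) (h : SqZero B T) :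
    Module.finrank F (LinearMap.range T) ≤ m := by
  have h1 := T.finrank_range_add_finrank_ker
  have h2 : LinearMap.range T ≤ LinearMap.ker T := by
    rintro _ ⟨v, rfl⟩
    exact LinearMap.mem_ker.2 (h.sq v)
  have := Submodule.finrank_mono h2
  omega

end CfsgLib.Classical.CharTwo
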